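/-
Relators between five transpositions lifting transvections of the unitary group in dimension five over four elements.
-/
import Cfsg.Agent.Lib.Spor.TC.Word

namespace CfsgLib.Spor.SUFiveRad

open CfsgLib.Spor.TC

/-- The relators of three of the transpositions. -/
def relsC : List PowRel := [
  ([0, 1], 3),
  ([0, 2], 3),
  ([1, 2], 3),
  ([1, 2, 1, 0], 3)]

/-- The relators of four of the transpositions. -/
def relsB : List PowRel := [
  ([0, 1], 3),
  ([0, 2], 3),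
  ([1, 2], 3),
  ([1, 2, 1, 0], 3),
  ([1, 3], 3),
  ([2, 3], 3),
  ([1, 3, 1, 0], 2),
  ([2, 3, 2, 0], 3),
  ([2, 3, 2, 1], 3)]

/-- The relators of the five transpositions. -/
def relsA : List PowRel := [
  ([0, 1], 3),
  ([0, 2], 3),
  ([1, 2], 3),
  ([1, 2, 1, 0], 3),
  ([1, 3], 3),
  ([2, 3], 3),
  ([1, 3, 1, 0], 2),
  ([2, 3, 2, 0], 3),
  ([2, 3, 2, 1], 3),
  ([0, 4], 3),
  ([1, 4], 2),
  ([2, 4], 2),
  ([3, 4], 2)]

/-- A word of odd length which is trivial in the unitary group. -/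
def oddWord : List ℕ := [3, 2, 1, 3, 0, 2, 3, 0, 1, 0, 2, 1, 3, 0, 2, 0, 1, 0, 4, 0, 2, 1, 0, 3, 2, 1, 3, 0, 4, 2, 1, 0, 1, 2, 4, 0, 3, 1, 2, 3, 0, 1, 2, 0, 4]

/-- All relators of the unitary group. -/
def relsW : List PowRel := relsA ++ [(oddWord, 1)]

end CfsgLib.Spor.SUFiveRad
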