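/-
The radical of a group generated by 3-transpositions, modulo which neighbours together with their perpendiculars
generate: the products of transpositions over a common image generate an elementary abelian subgroup.
-/
import Mathlib.GroupTheory.PGroup
import Mathlib.GroupTheory.Subgroup.Centralizer
import Mathlib.Tactic.Group
import Cfsg.Prelude.Def_Transfer

set_option autoImplicit false

namespace CfsgLib.Spor.SUFiveRad

variable {G K : Type*} [Group G] [Group K]

/-- A class of 3-transpositions over a quotient by a two-group. -/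
structure Over (π : G →* K) (D : Set G) : Prop where
  sq : ∀ d ∈ D, d * d = 1
  pair : ∀ d ∈ D, ∀ e ∈ D, (d * e) ^ 2 = 1 ∨ (d * e) ^ 3 = 1
  conj : ∀ g : G, ∀ d ∈ D, g * d * g⁻¹ ∈ D
  one_class : ∀ d ∈ D, ∀ e ∈ D, IsConj d e
  gen : Subgroup.closure D = ⊤
  surj : Function.Surjective π
  two : IsPGroup 2 π.ker
  center : Subgroup.center G = ⊥
  nbr : ∀ u ∈ π '' D, ∀ v ∈ π '' D, ¬ Commute u v →
    Subgroup.closure {w | w ∈ π '' D ∧ (Commute w u ∨ Commute w v)} = ⊤

variable {π : G →* K} {D : Set G}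

/-- The products of two members over one image. -/
def prods (π : G →* K) (D : Set G) (u : K) : Set G :=
  {z | ∃ x ∈ D, ∃ y ∈ D, π x = u ∧ π y = u ∧ z = x * y}

/-- The subgroup they generate. -/
def wSub (π : G →* K) (D : Set G) (u : K) : Subgroup G := Subgroup.closure (prods π D u)

/-- The products over all images. -/
def allProds (π : G →* K) (D : Set G) : Set G := {z | ∃ u ∈ π '' D, z ∈ prods π D u}

/-- The subgroup generated by the commutators of the transpositions with the radical. -/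
def eSub (π : G →* K) (D : Set G) : Subgroup G := Subgroup.closure (allProds π D)

namespace Over

variable (h : Over π D)
include h

theorem inv_eq {d : G} (hd : d ∈ D) : d⁻¹ = d := inv_eq_of_mul_eq_one_right (h.sq d hd)

/-- Members with commuting images commute. -/
theorem comm {x y : G} (hx : x ∈ D) (hy : y ∈ D) (hc : Commute (π x) (π y)) : Commute x y := by
  have h2 : π (x * y) ^ 2 = 1 := by
    rw [map_mul, hc.mul_pow, pow_two, pow_two, ← map_mul, ← map_mul, h.sq x hx, h.sq y hy, map_one, one_mul]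
  have hsq : (x * y) ^ 2 = 1 := by
    refine (h.pair x hx y hy).elim id fun h3 => ?_
    have h1 : π (x * y) = 1 := by
      have h3' : π (x * y) ^ 3 = 1 := by rw [← map_pow, h3, map_one]
      rwa [pow_succ, h2, one_mul] at h3'
    obtain ⟨k, hk⟩ := h.two ⟨x * y, h1⟩
    have hk' : (x * y) ^ 2 ^ k = 1 := congrArg Subtype.val hk
    have : x * y = 1 := orderOf_eq_one_iff.1 (Nat.eq_one_of_dvd_coprimes
      (Nat.Coprime.pow_left k (by norm_num : Nat.Coprime 2 3)) (orderOf_dvd_of_pow_eq_one hk')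
      (orderOf_dvd_of_pow_eq_one h3))
    rw [this, one_pow]
  rw [pow_two] at hsq
  show x * y = y * x
  rw [← inv_eq_of_mul_eq_one_right hsq, mul_inv_rev, h.inv_eq hx, h.inv_eq hy]

theorem commute_prods {f : G} (hf : f ∈ D) {u : K} (hc : Commute (π f) u) {z : G} (hz : z ∈ prods π D u) :
    Commute f z := by
  obtain ⟨x, hx, y, hy, hxu, hyu, rfl⟩ := hz
  exact (h.comm hf hx (hxu ▸ hc)).mul_right (h.comm hf hy (hyu ▸ hc))

theorem commute_wSub {f : G} (hf : f ∈ D) {u : K} (hc : Commute (π f) u) {z : G} (hz : z ∈ wSub π D u) :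
    Commute f z := by
  have : wSub π D u ≤ Subgroup.centralizer {f} := (Subgroup.closure_le _).2 fun y hy =>
    Subgroup.mem_centralizer_singleton_iff.2 (h.commute_prods hf hc hy).eq.symm
  exact (Subgroup.mem_centralizer_singleton_iff.1 (this hz)).symm

theorem wSub_le_ker (u : K) : wSub π D u ≤ π.ker := (Subgroup.closure_le _).2 (by
  rintro _ ⟨x, hx, y, hy, hxu, hyu, rfl⟩
  rw [SetLike.mem_coe, MonoidHom.mem_ker, map_mul, hyu, ← hxu, ← map_mul, h.sq x hx, map_one])

theorem eSub_le_ker : eSub π D ≤ π.ker := (Subgroup.closure_le _).2 (by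
  rintro z ⟨u, -, hz⟩
  exact h.wSub_le_ker u (Subgroup.subset_closure hz))

theorem conj_wSub (g : G) {u : K} {z : G} (hz : z ∈ wSub π D u) : g * z * g⁻¹ ∈ wSub π D (π g * u * (π g)⁻¹) := by
  have : wSub π D u ≤ (wSub π D (π g * u * (π g)⁻¹)).comap (MulAut.conj g).toMonoidHom :=
    (Subgroup.closure_le _).2 (by
      rintro _ ⟨x, hx, y, hy, hxu, hyu, rfl⟩
      show g * (x * y) * g⁻¹ ∈ wSub π D _
      exact Subgroup.subset_closure ⟨g * x * g⁻¹, h.conj g x hx, g * y * g⁻¹, h.conj g y hy,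
        by rw [map_mul, map_mul, map_inv, hxu], by rw [map_mul, map_mul, map_inv, hyu], by group⟩)
  exact this hz

/-- The subgroups over neighbours meet trivially. -/
theorem eq_one_of_mem {u v : K} (hu : u ∈ π '' D) (hv : v ∈ π '' D) (hn : ¬ Commute u v) {z : G}
    (hzu : z ∈ wSub π D u) (hzv : z ∈ wSub π D v) : z = 1 := by
  set C := Subgroup.centralizer ({z} : Set G)
  have hC : ∀ f ∈ D, (Commute (π f) u ∨ Commute (π f) v) → f ∈ C := fun f hf hc =>
    Subgroup.mem_centralizer_singleton_iff.2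
      (hc.elim (fun c => h.commute_wSub hf c hzu) (fun c => h.commute_wSub hf c hzv)).eq
  have hmap : C.map π = ⊤ := by
    rw [eq_top_iff, ← h.nbr u hu v hv hn, Subgroup.closure_le]
    rintro _ ⟨⟨f, hf, rfl⟩, hc⟩
    exact ⟨f, hC f hf hc, rfl⟩
  obtain ⟨d0, hd0, rfl⟩ := hu
  have hall : ∀ d ∈ D, d ∈ C := by
    intro d hd
    obtain ⟨g, hg⟩ := isConj_iff.1 (h.one_class d0 hd0 d hd)
    obtain ⟨c, hc, hcg⟩ := Subgroup.mem_map.1 (hmap ▸ Subgroup.mem_top (π g) : π g ∈ C.map π)
    have h1 : π (c⁻¹ * d * c) = π d0 := by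
      rw [← hg]; simp only [map_mul, map_inv, hcg]; group
    have hd' : c⁻¹ * d * c ∈ D := by simpa using h.conj c⁻¹ d hd
    have := mul_mem (mul_mem hc (hC _ hd' (Or.inl (by rw [h1])))) (inv_mem hc)
    simpa [mul_assoc] using this
  have hz : z ∈ Subgroup.center G := by
    rw [Subgroup.mem_center_iff]
    intro g
    have hle : Subgroup.closure D ≤ C := (Subgroup.closure_le _).2 hall
    rw [h.gen] at hle
    exact Subgroup.mem_centralizer_singleton_iff.1 (hle (Subgroup.mem_top g))
  rwa [h.center, Subgroup.mem_bot] at hz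

theorem commute_allProds {a b : G} (ha : a ∈ allProds π D) (hb : b ∈ allProds π D) : Commute a b := by
  obtain ⟨u, hu, hau⟩ := ha
  obtain ⟨v, hv, hbv⟩ := hb
  by_cases hc : Commute u v
  · obtain ⟨x, hx, y, hy, hxu, hyu, rfl⟩ := hau
    exact (h.commute_prods hx (hxu ▸ hc) hbv).mul_left (h.commute_prods hy (hyu ▸ hc) hbv)
  · have ha' : a ∈ wSub π D u := Subgroup.subset_closure hau
    have hb' : b ∈ wSub π D v := Subgroup.subset_closure hbv
    have h1 : a * b * a⁻¹ * b⁻¹ ∈ wSub π D u := by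
      have := h.conj_wSub b (inv_mem ha')
      rw [MonoidHom.mem_ker.1 (h.wSub_le_ker _ hb'), one_mul, inv_one, mul_one] at this
      rw [show a * b * a⁻¹ * b⁻¹ = a * (b * a⁻¹ * b⁻¹) by group]
      exact mul_mem ha' this
    have h2 : a * b * a⁻¹ * b⁻¹ ∈ wSub π D v := by
      have := h.conj_wSub a hb'
      rw [MonoidHom.mem_ker.1 (h.wSub_le_ker _ ha'), one_mul, inv_one, mul_one] at this
      exact mul_mem this (inv_mem hb')
    exact commutatorElement_eq_one_iff_commute.1 (h.eq_one_of_mem hu hv hc h1 h2)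

theorem isMulCommutative_eSub : IsMulCommutative (eSub π D) :=
  Subgroup.isMulCommutative_closure fun _ ha _ hb => (h.commute_allProds ha hb).eq

theorem pow_two_eq_one {a : G} (ha : a ∈ eSub π D) : a ^ 2 = 1 := by
  haveI := h.isMulCommutative_eSub
  induction ha using Subgroup.closure_induction with
  | mem z hz =>
    obtain ⟨u, -, x, hx, y, hy, hxu, hyu, rfl⟩ := hz
    rw [(h.comm hx hy (hxu ▸ hyu ▸ Commute.refl _)).mul_pow, pow_two, pow_two, h.sq x hx, h.sq y hy, one_mul]
  | one => exact one_pow 2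
  | mul x y hx hy ihx ihy =>
    rw [(show Commute x y from congrArg Subtype.val (mul_comm' (⟨x, hx⟩ : eSub π D) ⟨y, hy⟩)).mul_pow, ihx, ihy,
      one_mul]
  | inv x _ ih => rw [inv_pow, ih, inv_one]

theorem elementary : Cfsg.IsElementaryAbelian 2 (eSub π D) :=
  ⟨h.isMulCommutative_eSub, fun _ ha => h.pow_two_eq_one ha⟩

theorem eSub_normal : (eSub π D).Normal := by
  refine ⟨fun z hz g => ?_⟩
  have : eSub π D ≤ (eSub π D).comap (MulAut.conj g).toMonoidHom := (Subgroup.closure_le _).2 (by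
    rintro _ ⟨u, hu, x, hx, y, hy, hxu, hyu, rfl⟩
    show g * (x * y) * g⁻¹ ∈ eSub π D
    exact Subgroup.subset_closure ⟨π g * u * (π g)⁻¹,
      ⟨g * x * g⁻¹, h.conj g x hx, by rw [map_mul, map_mul, map_inv, hxu]⟩,
      g * x * g⁻¹, h.conj g x hx, g * y * g⁻¹, h.conj g y hy,
      by rw [map_mul, map_mul, map_inv, hxu], by rw [map_mul, map_mul, map_inv, hyu], by group⟩)
  exact this hz

end Over

end CfsgLib.Spor.SUFiveRad
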