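/-
Points and tables of the unitary group in dimension five over four elements, found by a computer search.
-/
import Cfsg.Agent.Lib.Spor.Fi22.U6.Field

namespace CfsgLib.Spor.SUFiveRad

open CfsgLib.Spor.Fi22.U6

/-- The isotropic points. -/
def pts : List (List Four) := [
  [.o, .o, .o, .e, .e], [.o, .o, .o, .e, .w], [.o, .o, .o, .e, .u], [.o, .o, .e, .o, .e], [.o, .o, .e, .o, .w],
  [.o, .o, .e, .o, .u], [.o, .o, .e, .e, .o], [.o, .o, .e, .w, .o], [.o, .o, .e, .u, .o], [.o, .e, .o, .o, .e],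
  [.o, .e, .o, .o, .w], [.o, .e, .o, .o, .u], [.o, .e, .o, .e, .o], [.o, .e, .o, .w, .o], [.o, .e, .o, .u, .o],
  [.o, .e, .e, .o, .o], [.o, .e, .e, .e, .e], [.o, .e, .e, .e, .w], [.o, .e, .e, .e, .u], [.o, .e, .e, .w, .e],
  [.o, .e, .e, .w, .w], [.o, .e, .e, .w, .u], [.o, .e, .e, .u, .e], [.o, .e, .e, .u, .w], [.o, .e, .e, .u, .u],
  [.o, .e, .w, .o, .o], [.o, .e, .w, .e, .e], [.o, .e, .w, .e, .w], [.o, .e, .w, .e, .u], [.o, .e, .w, .w, .e],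
  [.o, .e, .w, .w, .w], [.o, .e, .w, .w, .u], [.o, .e, .w, .u, .e], [.o, .e, .w, .u, .w], [.o, .e, .w, .u, .u],
  [.o, .e, .u, .o, .o], [.o, .e, .u, .e, .e], [.o, .e, .u, .e, .w], [.o, .e, .u, .e, .u], [.o, .e, .u, .w, .e],
  [.o, .e, .u, .w, .w], [.o, .e, .u, .w, .u], [.o, .e, .u, .u, .e], [.o, .e, .u, .u, .w], [.o, .e, .u, .u, .u],
  [.e, .o, .o, .o, .e], [.e, .o, .o, .o, .w], [.e, .o, .o, .o, .u], [.e, .o, .o, .e, .o], [.e, .o, .o, .w, .o],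
  [.e, .o, .o, .u, .o], [.e, .o, .e, .o, .o], [.e, .o, .e, .e, .e], [.e, .o, .e, .e, .w], [.e, .o, .e, .e, .u],
  [.e, .o, .e, .w, .e], [.e, .o, .e, .w, .w], [.e, .o, .e, .w, .u], [.e, .o, .e, .u, .e], [.e, .o, .e, .u, .w],
  [.e, .o, .e, .u, .u], [.e, .o, .w, .o, .o], [.e, .o, .w, .e, .e], [.e, .o, .w, .e, .w], [.e, .o, .w, .e, .u],
  [.e, .o, .w, .w, .e], [.e, .o, .w, .w, .w], [.e, .o, .w, .w, .u], [.e, .o, .w, .u, .e], [.e, .o, .w, .u, .w],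
  [.e, .o, .w, .u, .u], [.e, .o, .u, .o, .o], [.e, .o, .u, .e, .e], [.e, .o, .u, .e, .w], [.e, .o, .u, .e, .u],
  [.e, .o, .u, .w, .e], [.e, .o, .u, .w, .w], [.e, .o, .u, .w, .u], [.e, .o, .u, .u, .e], [.e, .o, .u, .u, .w],
  [.e, .o, .u, .u, .u], [.e, .e, .o, .o, .o], [.e, .e, .o, .e, .e], [.e, .e, .o, .e, .w], [.e, .e, .o, .e, .u],
  [.e, .e, .o, .w, .e], [.e, .e, .o, .w, .w], [.e, .e, .o, .w, .u], [.e, .e, .o, .u, .e], [.e, .e, .o, .u, .w],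
  [.e, .e, .o, .u, .u], [.e, .e, .e, .o, .e], [.e, .e, .e, .o, .w], [.e, .e, .e, .o, .u], [.e, .e, .e, .e, .o],
  [.e, .e, .e, .w, .o], [.e, .e, .e, .u, .o], [.e, .e, .w, .o, .e], [.e, .e, .w, .o, .w], [.e, .e, .w, .o, .u],
  [.e, .e, .w, .e, .o], [.e, .e, .w, .w, .o], [.e, .e, .w, .u, .o], [.e, .e, .u, .o, .e], [.e, .e, .u, .o, .w],
  [.e, .e, .u, .o, .u], [.e, .e, .u, .e, .o], [.e, .e, .u, .w, .o], [.e, .e, .u, .u, .o], [.e, .w, .o, .o, .o],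
  [.e, .w, .o, .e, .e], [.e, .w, .o, .e, .w], [.e, .w, .o, .e, .u], [.e, .w, .o, .w, .e], [.e, .w, .o, .w, .w],
  [.e, .w, .o, .w, .u], [.e, .w, .o, .u, .e], [.e, .w, .o, .u, .w], [.e, .w, .o, .u, .u], [.e, .w, .e, .o, .e],
  [.e, .w, .e, .o, .w], [.e, .w, .e, .o, .u], [.e, .w, .e, .e, .o], [.e, .w, .e, .w, .o], [.e, .w, .e, .u, .o],
  [.e, .w, .w, .o, .e], [.e, .w, .w, .o, .w], [.e, .w, .w, .o, .u], [.e, .w, .w, .e, .o], [.e, .w, .w, .w, .o],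
  [.e, .w, .w, .u, .o], [.e, .w, .u, .o, .e], [.e, .w, .u, .o, .w], [.e, .w, .u, .o, .u], [.e, .w, .u, .e, .o],
  [.e, .w, .u, .w, .o], [.e, .w, .u, .u, .o], [.e, .u, .o, .o, .o], [.e, .u, .o, .e, .e], [.e, .u, .o, .e, .w],
  [.e, .u, .o, .e, .u], [.e, .u, .o, .w, .e], [.e, .u, .o, .w, .w], [.e, .u, .o, .w, .u], [.e, .u, .o, .u, .e],
  [.e, .u, .o, .u, .w], [.e, .u, .o, .u, .u], [.e, .u, .e, .o, .e], [.e, .u, .e, .o, .w], [.e, .u, .e, .o, .u],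
  [.e, .u, .e, .e, .o], [.e, .u, .e, .w, .o], [.e, .u, .e, .u, .o], [.e, .u, .w, .o, .e], [.e, .u, .w, .o, .w],
  [.e, .u, .w, .o, .u], [.e, .u, .w, .e, .o], [.e, .u, .w, .w, .o], [.e, .u, .w, .u, .o], [.e, .u, .u, .o, .e],
  [.e, .u, .u, .o, .w], [.e, .u, .u, .o, .u], [.e, .u, .u, .e, .o], [.e, .u, .u, .w, .o], [.e, .u, .u, .u, .o]]

/-- The points of the five generators. -/
def genPts : List ℕ := [
  45, 120, 123, 47, 80]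

/-- The generators as permutations of the points. -/
def tbl : List (List ℕ) := [
  [48, 50, 49, 51, 71, 61, 6, 7, 8, 81, 137, 109, 12, 13, 14, 15, 94, 164, 129, 95, 162, 130, 96, 163, 128, 25, 100, 152, 135, 101, 150, 136, 102, 151, 134, 35, 106, 158, 123, 107, 156, 124, 108, 157, 122, 45, 47, 46, 0, 2, 1, 3, 52, 80, 66, 55, 74, 69, 58, 77, 63, 5, 62, 60, 76, 65, 54, 79, 68, 57, 73, 4, 72, 70, 56, 75, 64, 59, 78, 67, 53, 9, 82, 146, 114, 85, 140, 117, 88, 143, 111, 91, 161, 126, 16, 19, 22, 97, 149, 132, 26, 29, 32, 103, 155, 120, 36, 39, 42, 11, 110, 90, 142, 113, 84, 145, 116, 87, 139, 119, 105, 154, 44, 38, 41, 125, 93, 160, 24, 18, 21, 131, 99, 148, 34, 28, 31, 10, 138, 118, 86, 141, 112, 89, 144, 115, 83, 147, 133, 98, 30, 33, 27, 153, 121, 104, 40, 43, 37, 159, 127, 92, 20, 23, 17],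
  [123, 122, 124, 125, 4, 133, 111, 114, 117, 9, 93, 147, 56, 59, 53, 98, 140, 75, 18, 143, 78, 21, 146, 72, 24, 160, 88, 27, 67, 82, 30, 70, 85, 33, 64, 35, 49, 156, 108, 50, 157, 106, 48, 158, 107, 105, 46, 153, 42, 36, 39, 51, 152, 14, 95, 150, 12, 96, 151, 13, 94, 161, 62, 86, 34, 65, 89, 28, 68, 83, 31, 97, 23, 145, 74, 17, 139, 77, 20, 142, 80, 159, 29, 69, 84, 32, 63, 87, 26, 66, 90, 91, 148, 10, 60, 54, 57, 71, 15, 137, 100, 101, 102, 155, 104, 45, 41, 44, 38, 109, 130, 6, 135, 128, 7, 136, 129, 8, 134, 121, 120, 119, 1, 0, 2, 3, 132, 127, 113, 116, 110, 131, 126, 5, 118, 112, 115, 99, 138, 76, 16, 141, 79, 19, 144, 73, 22, 11, 92, 149, 55, 58, 52, 47, 154, 103, 37, 40, 43, 81, 25, 61, 162, 163, 164],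
  [120, 121, 119, 113, 114, 115, 128, 7, 136, 56, 57, 55, 12, 96, 150, 101, 144, 145, 146, 73, 74, 72, 22, 23, 24, 163, 84, 82, 83, 29, 30, 31, 69, 70, 68, 35, 46, 47, 45, 153, 154, 155, 105, 103, 104, 38, 36, 37, 108, 49, 156, 51, 149, 147, 148, 11, 9, 10, 92, 93, 91, 164, 62, 63, 64, 86, 87, 85, 34, 32, 33, 100, 21, 19, 20, 143, 141, 142, 78, 79, 80, 162, 27, 28, 26, 67, 65, 66, 88, 89, 90, 60, 58, 59, 94, 151, 13, 97, 98, 99, 71, 15, 137, 43, 44, 42, 158, 107, 48, 109, 127, 125, 126, 3, 4, 5, 132, 133, 131, 2, 0, 1, 124, 123, 122, 111, 112, 110, 6, 135, 130, 118, 116, 117, 134, 129, 8, 102, 138, 139, 140, 76, 77, 75, 16, 17, 18, 53, 54, 52, 14, 95, 152, 39, 40, 41, 50, 157, 106, 159, 160, 161, 81, 25, 61],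
  [50, 49, 48, 71, 61, 51, 6, 7, 8, 137, 109, 81, 12, 13, 14, 15, 164, 129, 94, 162, 130, 95, 163, 128, 96, 25, 152, 135, 100, 150, 136, 101, 151, 134, 102, 35, 158, 123, 106, 156, 124, 107, 157, 122, 108, 46, 45, 47, 2, 1, 0, 5, 79, 65, 54, 73, 68, 57, 76, 62, 60, 4, 59, 75, 64, 53, 78, 67, 56, 72, 70, 3, 69, 55, 74, 63, 58, 77, 66, 52, 80, 11, 145, 113, 84, 139, 116, 87, 142, 110, 90, 160, 125, 93, 18, 21, 24, 148, 131, 99, 28, 31, 34, 154, 119, 105, 38, 41, 44, 10, 89, 141, 112, 83, 144, 115, 86, 138, 118, 104, 153, 121, 43, 37, 40, 92, 159, 127, 23, 17, 20, 98, 147, 133, 33, 27, 30, 9, 117, 85, 140, 111, 88, 143, 114, 82, 146, 132, 97, 149, 29, 32, 26, 120, 103, 155, 39, 42, 36, 126, 91, 161, 19, 22, 16],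
  [0, 75, 73, 3, 68, 59, 6, 64, 57, 164, 136, 108, 161, 133, 105, 146, 137, 122, 101, 119, 142, 21, 98, 23, 138, 118, 110, 154, 28, 157, 109, 94, 32, 91, 114, 90, 86, 37, 147, 39, 82, 126, 150, 129, 81, 53, 65, 47, 55, 63, 50, 62, 66, 45, 54, 48, 61, 8, 58, 5, 70, 56, 51, 49, 7, 46, 52, 67, 4, 69, 60, 71, 72, 2, 77, 1, 76, 74, 79, 78, 80, 44, 40, 83, 127, 85, 36, 149, 130, 152, 35, 33, 92, 115, 31, 95, 117, 97, 22, 140, 100, 18, 144, 135, 162, 14, 132, 159, 11, 30, 26, 111, 155, 113, 34, 93, 158, 96, 25, 19, 120, 143, 17, 123, 145, 125, 41, 84, 128, 43, 88, 163, 106, 13, 160, 103, 10, 16, 24, 139, 99, 141, 20, 121, 102, 124, 15, 38, 148, 87, 42, 151, 89, 153, 27, 112, 156, 29, 116, 107, 134, 12, 104, 131, 9]]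

/-- Each point as the image of a generator. -/
def conjData : List (List ℕ × ℕ) := [
  ([2], 1), ([0, 3, 2], 1), ([3, 0, 2], 1), ([0, 3, 2, 1, 3, 0, 4, 2, 1], 0),
  ([3, 2, 0, 4, 0, 3, 1, 2], 0), ([2, 1, 3, 0, 4, 2, 1], 0), ([2, 0, 3, 1, 2, 3, 0, 4, 1, 2], 0), ([1, 3, 2, 1, 0, 4, 2, 3], 0),
  ([2, 3, 0, 4, 2, 1], 0), ([0, 4, 3, 1, 2], 0), ([3, 0, 4, 1, 2], 0), ([4, 1, 2], 0),
  ([1, 2, 0, 4, 3, 1, 2], 0), ([1, 2, 0, 4, 1, 3, 2], 0), ([4, 1], 0), ([2, 0, 4, 3, 2, 1], 0),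
  ([1, 0, 4, 2, 3], 0), ([4, 0, 3, 1, 2], 0), ([0, 4, 1, 0, 3], 2), ([4, 2, 3, 0, 2], 1),
  ([0, 4, 2, 3, 1, 2], 0), ([3, 0, 4, 2, 3, 0, 2], 1), ([1, 2, 0, 4, 1, 0, 3], 2), ([1, 3, 0, 2, 3, 0, 4, 1, 2], 0),
  ([3, 1, 2, 3, 0, 4, 1, 2], 0), ([1, 3, 2, 0, 4, 1, 2, 3], 0), ([3, 0, 4, 2, 0, 1, 3], 2), ([4, 2, 0, 1, 3], 2),
  ([0, 4, 2, 1, 0, 3], 2), ([4, 3, 2, 1], 0), ([0, 4, 2, 1], 0), ([3, 0, 4, 3, 2, 1], 0),
  ([0, 2, 1, 0, 4, 3, 2], 0), ([2, 0, 4, 3, 0, 2], 1), ([3, 2, 1, 0, 4, 3, 2], 0), ([4, 0, 2, 1, 0, 3, 2, 1, 3, 0, 4, 2, 1], 0),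
  ([2, 3], 0), ([3], 2), ([2], 0), ([2, 3], 1),
  ([0, 1, 3], 2), ([1, 3, 2], 0), ([2, 1], 0), ([1, 0, 3], 2),
  ([3, 1, 2], 0), ([], 0), ([3], 0), ([], 3),
  ([0, 2], 1), ([1, 2, 3], 0), ([3, 2], 1), ([3, 2, 1, 3, 0, 4, 2, 1], 0),
  ([1, 0, 4, 2, 0, 1, 3], 2), ([4], 0), ([1, 0, 4, 2, 3, 0, 2], 1), ([4, 0, 2], 1),
  ([2, 0, 4, 3, 1, 2], 0), ([2, 3, 0, 4, 1, 2], 0), ([1, 2, 0, 4, 2, 3, 0, 2], 1), ([2, 0, 4, 1, 3, 2], 0),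
  ([0, 4, 1, 2, 3], 0), ([2, 0, 4, 0, 3, 1, 2], 0), ([3, 2, 0, 4, 1, 3, 2], 0), ([4, 1, 2, 3], 0),
  ([1, 3, 2, 1, 0, 4, 3, 2], 0), ([4, 3], 0), ([1, 0, 4, 2, 0, 3, 2], 1), ([1, 0, 4, 2, 1, 0, 3], 2),
  ([3, 2, 0, 4, 3, 1, 2], 0), ([0, 2, 3, 0, 4, 1, 2], 0), ([0, 4, 3, 0, 2], 1), ([2, 3, 0, 4, 2, 1, 0, 3], 2),
  ([3, 0, 2, 3, 0, 4, 1, 2], 0), ([4, 3, 0, 2], 1), ([2, 0, 4, 2, 3, 1, 2], 0), ([4, 0, 3, 2], 1),
  ([0, 1, 3, 2, 1, 0, 4, 3, 2], 0), ([2, 0, 4, 2, 1, 3, 2], 0), ([1, 0, 4, 2, 3, 1, 2], 0), ([1, 0, 4, 2, 1, 3, 2], 0),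
  ([], 4), ([4, 3, 1, 2], 0), ([4, 0, 1, 3], 2), ([2, 0, 4, 2, 1, 0, 3], 2),
  ([0, 3, 2, 1, 0, 4, 2, 3], 0), ([1, 0, 2, 1, 0, 4, 3, 2], 0), ([4, 2, 3], 0), ([0, 1, 2, 3, 0, 4, 2, 1], 0),
  ([3, 0, 4, 2, 1, 3, 2], 0), ([0, 4, 2, 0, 3, 2], 1), ([0, 2, 1, 0, 3, 2, 1, 3, 0, 4, 2, 1], 0), ([2, 0, 4, 1, 2, 3], 0),
  ([0, 1, 2, 0, 4, 0, 3, 1, 2], 0), ([0, 4, 1, 3, 2], 0), ([1, 0, 4, 1, 2, 3], 0), ([0, 4, 2, 3, 0, 2], 1),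
  ([1, 2, 3, 0, 4, 1, 2], 0), ([3, 2, 1, 0, 4, 2, 3, 0, 2], 1), ([1, 2, 0, 4, 3, 2, 1], 0), ([0, 4, 3, 2], 0),
  ([3, 0, 4, 2, 1, 0, 3], 2), ([0, 4, 3, 2, 1], 0), ([2, 1, 0, 4, 3, 2], 0), ([2, 1, 0, 3], 2),
  ([2, 3, 1, 2], 0), ([1], 0), ([3, 2], 0), ([0, 2, 3], 1),
  ([1, 2], 0), ([0, 4, 1, 2], 0), ([3, 0, 4, 2, 0, 3, 2], 1), ([2, 1, 0, 3, 2, 1, 3, 0, 4, 2, 1], 0),
  ([4, 2, 1, 3, 2], 0), ([3, 2, 0, 4, 2, 1, 0, 3], 2), ([3, 2, 1, 0, 4, 2, 3], 0), ([1, 3, 0, 4, 2, 1], 0),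
  ([4, 0, 3], 2), ([1, 2, 3, 0, 4, 2, 1], 0), ([1, 3, 2, 0, 4, 3, 0, 2], 1), ([2, 3, 0, 2], 1),
  ([], 1), ([2, 0, 3, 2], 1), ([0, 3, 1, 2], 0), ([], 2),
  ([0, 1, 3, 2], 0), ([1, 0, 3, 2, 1, 3, 0, 4, 2, 1], 0), ([4, 1, 3, 2], 0), ([0, 3, 2, 0, 4, 1, 2, 3], 0),
  ([0, 3, 1, 2, 3, 0, 4, 1, 2], 0), ([4, 1, 0, 3], 2), ([3, 0, 4, 2, 3, 1, 2], 0), ([3, 1, 2, 0, 4, 3, 2, 1], 0),
  ([4, 3, 2], 0), ([1, 2, 1, 3, 0, 4, 2, 1], 0), ([3, 2, 0, 4, 3, 0, 2], 1), ([4, 2, 1, 0, 3], 2),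
  ([3, 0, 4, 2, 1], 0), ([1, 0, 4, 3, 2], 0), ([3, 1, 2, 3, 0, 4, 2, 1], 0), ([3, 1, 0, 2, 1, 0, 4, 3, 2], 0),
  ([0, 4, 2, 3], 0), ([2, 0, 1, 3, 2, 1, 0, 4, 3, 2], 0), ([0, 4, 2, 1, 3, 2], 0), ([4, 2, 0, 3, 2], 1),
  ([2, 1, 0, 4, 2, 3], 0), ([4, 0, 1, 3, 2], 0), ([2, 0, 4, 1, 0, 3], 2), ([4, 2], 0),
  ([2, 1, 0, 4, 2, 3, 0, 2], 1), ([0, 1, 2, 0, 4, 3, 2, 1], 0), ([4, 2, 1], 0), ([2, 0, 4, 2, 3, 0, 2], 1),
  ([0, 4, 2, 0, 1, 3], 2), ([3], 1), ([2, 0, 1, 3], 2), ([2, 1, 3, 2], 0),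
  ([1, 3], 2), ([3, 2, 1], 0), ([0, 3], 2), ([4, 0, 2, 3], 1),
  ([3, 2, 0, 4, 1, 2, 3], 0), ([1, 2, 0, 4, 0, 3, 1, 2], 0), ([4, 2, 3, 1, 2], 0), ([3, 1, 2, 0, 4, 1, 0, 3], 2),
  ([0, 4, 0, 3, 1, 2], 0)]

/-- Each point as an image of the first. -/
def pathData : List (List ℕ) := [
  [], [0, 3], [3, 0], [0, 3, 2, 0, 4, 1, 3, 0], [3, 2, 0, 4, 1, 0, 3], [2, 0, 4, 1, 3, 0],
  [2, 0, 3, 1, 2, 3, 0, 4, 2, 0], [4, 1, 0, 3, 2, 0, 4, 3, 0], [2, 3, 0, 4, 1, 0], [0, 4, 3, 2, 0], [3, 0, 4, 2, 0], [4, 2, 0],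
  [1, 2, 0, 4, 3, 2, 0], [1, 2, 1, 3, 0, 4, 2, 0], [4, 0, 2], [2, 0, 4, 3, 1, 0], [3, 0, 4, 1, 0, 3], [4, 1, 0, 3],
  [0, 4, 0, 3, 1, 0], [4, 2, 3, 0], [0, 4, 2, 3, 2, 0], [3, 0, 4, 2, 3, 0], [1, 2, 0, 4, 0, 3, 1, 0], [1, 2, 3, 0, 4, 2, 3, 0],
  [3, 1, 2, 3, 0, 4, 2, 0], [1, 3, 2, 0, 4, 0, 3, 0], [3, 0, 4, 0, 2, 0, 3], [4, 0, 2, 0, 3], [0, 4, 2, 0, 3, 1, 0], [4, 3, 1, 0],
  [0, 4, 1, 0], [1, 0, 4, 3, 0], [3, 2, 0, 4, 2, 3, 0], [2, 0, 4, 3, 0], [0, 3, 2, 0, 4, 3, 0], [4, 0, 2, 1, 0, 3, 2, 0, 4, 1, 3, 0],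
  [1, 0, 3, 0], [3, 1], [0, 1], [1, 3], [0, 2, 3], [0, 1, 3, 0],
  [1, 0], [0, 3, 1, 0], [3, 2, 0], [2, 0, 1], [3, 2, 0, 1], [2, 3, 1],
  [0], [0, 3, 0], [3], [3, 2, 0, 4, 1, 3, 0], [1, 0, 4, 0, 2, 0, 3], [4, 2, 0, 1],
  [1, 0, 4, 2, 3, 0], [4, 0], [2, 0, 4, 3, 2, 0], [2, 3, 0, 4, 2, 0], [1, 2, 0, 4, 2, 3, 0], [2, 1, 3, 0, 4, 2, 0],
  [0, 4, 0, 3, 0], [2, 0, 4, 1, 0, 3], [3, 2, 1, 3, 0, 4, 2, 0], [4, 0, 3, 0], [1, 0, 3, 2, 0, 4, 3, 0], [4, 3, 2, 0, 1],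
  [1, 0, 4, 2, 0, 3], [1, 0, 4, 2, 0, 3, 1, 0], [3, 2, 0, 4, 3, 2, 0], [0, 2, 3, 0, 4, 2, 0], [0, 4, 3, 0], [0, 3, 2, 0, 4, 1, 0, 3],
  [2, 3, 0, 4, 2, 3, 0], [4, 3, 0], [2, 0, 4, 2, 3, 2, 0], [4, 0, 3], [3, 1, 2, 0, 4, 2, 3, 0], [2, 0, 4, 0, 2, 3, 2, 0],
  [1, 0, 4, 2, 3, 2, 0], [1, 0, 4, 0, 2, 3, 2, 0], [0, 4, 2, 0, 1], [4, 3, 2, 0], [4, 0, 2, 3], [2, 0, 4, 2, 0, 3, 1, 0],
  [2, 3, 0, 4, 0, 2, 0, 3], [1, 3, 2, 0, 4, 2, 3, 0], [4, 1, 0, 3, 0], [2, 1, 0, 4, 2, 0, 3], [3, 0, 4, 0, 2, 3, 2, 0], [0, 4, 2, 0, 3],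
  [0, 2, 1, 0, 3, 2, 0, 4, 1, 3, 0], [2, 0, 4, 0, 3, 0], [1, 2, 1, 0, 4, 2, 3, 0], [1, 3, 0, 4, 2, 0], [1, 0, 4, 0, 3, 0], [0, 4, 2, 3, 0],
  [1, 2, 3, 0, 4, 2, 0], [3, 2, 1, 0, 4, 2, 3, 0], [1, 2, 0, 4, 3, 1, 0], [0, 4, 3, 0, 1], [3, 0, 4, 2, 0, 3, 1, 0], [0, 4, 3, 1, 0],
  [2, 3, 0, 4, 3, 2, 0], [2, 0, 3, 1, 0], [2, 3, 2, 0], [0, 2], [3, 0, 1], [0, 1, 3],
  [2, 0], [0, 4, 2, 0], [3, 0, 4, 2, 0, 3], [2, 1, 0, 3, 2, 0, 4, 1, 3, 0], [4, 0, 2, 3, 2, 0], [3, 2, 0, 4, 2, 0, 3, 1, 0],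
  [4, 0, 3, 2, 0, 4, 3, 0], [0, 4, 1, 3, 0], [4, 0, 3, 1], [1, 2, 3, 0, 4, 1, 0], [1, 3, 2, 0, 4, 3, 0], [2, 3, 0],
  [2], [2, 0, 3], [1, 0, 3], [1], [1, 3, 0], [1, 0, 3, 2, 0, 4, 1, 3, 0],
  [4, 0, 1, 3, 0], [2, 3, 0, 4, 2, 0, 3], [0, 3, 1, 2, 3, 0, 4, 2, 0], [4, 0, 3, 1, 0], [3, 0, 4, 2, 3, 2, 0], [3, 1, 2, 0, 4, 3, 1, 0],
  [4, 3, 0, 1], [1, 2, 0, 4, 1, 3, 0], [3, 2, 0, 4, 3, 0], [4, 2, 0, 3, 1, 0], [3, 0, 4, 1, 0], [3, 0, 4, 3, 2, 0],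
  [3, 1, 2, 3, 0, 4, 1, 0], [0, 1, 3, 2, 0, 4, 3, 0], [0, 4, 1, 0, 3, 0], [2, 3, 1, 2, 0, 4, 2, 3, 0], [0, 4, 0, 2, 3, 2, 0], [4, 2, 0, 3],
  [2, 3, 0, 4, 1, 0, 3], [4, 1, 3, 0], [2, 0, 4, 0, 3, 1, 0], [4, 0, 1], [2, 1, 0, 4, 2, 3, 0], [0, 1, 2, 0, 4, 3, 1, 0],
  [4, 1, 0], [2, 0, 4, 2, 3, 0], [0, 4, 0, 2, 0, 3], [3, 2], [0, 2, 0, 3], [0, 2, 3, 2, 0],
  [2, 3], [3, 1, 0], [0, 3, 1], [4, 0, 1, 3], [3, 2, 0, 4, 0, 3, 0], [1, 2, 0, 4, 1, 0, 3],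
  [4, 2, 3, 2, 0], [3, 1, 2, 0, 4, 0, 3, 1, 0], [0, 4, 1, 0, 3]]

/-- For each neighbour of the first point, the generators reached from the perpendicular points. -/
def nbData : List (List (ℕ × ℕ)) := [
  [], [(53, 80), (20, 78), (16, 144), (56, 68), (80, 80)],
  [(54, 66), (16, 140), (18, 146), (52, 79), (80, 80)], [(0, 48), (12, 56), (20, 74), (0, 50), (80, 80)],
  [(0, 48), (120, 120), (0, 120), (0, 50), (80, 80)], [(0, 48), (12, 56), (18, 146), (0, 50), (80, 80)],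
  [(45, 45), (20, 78), (9, 56), (47, 47), (80, 80)], [(45, 45), (0, 123), (123, 123), (47, 47), (80, 80)],
  [(45, 45), (22, 146), (9, 56), (47, 47), (80, 80)], [(0, 48), (120, 120), (0, 120), (0, 50), (80, 80)],
  [(0, 48), (7, 114), (16, 144), (0, 50), (80, 80)], [(0, 48), (7, 114), (18, 146), (0, 50), (80, 80)],
  [(45, 45), (0, 123), (123, 123), (47, 47), (80, 80)], [(45, 45), (16, 140), (4, 114), (47, 47), (80, 80)],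
  [(45, 45), (22, 146), (4, 114), (47, 47), (80, 80)], [],
  [], [(4, 71), (12, 56), (4, 114), (4, 61), (80, 80)],
  [(5, 61), (120, 120), (0, 120), (5, 51), (80, 80)], [(3, 51), (7, 114), (9, 56), (3, 71), (80, 80)],
  [], [(5, 61), (120, 120), (0, 120), (5, 51), (80, 80)],
  [(3, 51), (0, 123), (123, 123), (3, 71), (80, 80)], [(4, 71), (0, 123), (123, 123), (4, 61), (80, 80)],
  [], [],
  [], [(3, 51), (120, 120), (0, 120), (3, 71), (80, 80)],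
  [(4, 71), (12, 56), (4, 114), (4, 61), (80, 80)], [(5, 61), (0, 123), (123, 123), (5, 51), (80, 80)],
  [], [(4, 71), (0, 123), (123, 123), (4, 61), (80, 80)],
  [(5, 61), (7, 114), (9, 56), (5, 51), (80, 80)], [(3, 51), (120, 120), (0, 120), (3, 71), (80, 80)],
  [], [],
  [], [(5, 61), (7, 114), (15, 101), (5, 51), (80, 80)],
  [(3, 51), (7, 114), (15, 101), (3, 71), (80, 80)], [(4, 71), (15, 98), (4, 114), (4, 61), (80, 80)],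
  [], [(3, 51), (60, 94), (52, 149), (3, 71), (80, 80)],
  [(4, 71), (15, 98), (4, 114), (4, 61), (80, 80)], [(5, 61), (52, 152), (60, 91), (5, 51), (80, 80)],
  [], [(45, 45), (7, 114), (16, 144), (56, 68), (80, 80)],
  [(53, 80), (120, 120), (0, 120), (52, 79), (80, 80)], [(54, 66), (7, 114), (20, 74), (47, 47), (80, 80)],
  [(0, 48), (16, 140), (4, 114), (3, 71), (80, 80)], [(3, 51), (0, 123), (123, 123), (3, 71), (80, 80)],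
  [(3, 51), (20, 78), (4, 114), (0, 50), (80, 80)], [],
  [], [(0, 48), (34, 64), (4, 114), (4, 61), (80, 80)],
  [(0, 48), (15, 98), (16, 144), (47, 47), (80, 80)], [(45, 45), (7, 114), (34, 68), (3, 71), (80, 80)],
  [], [(5, 61), (7, 114), (20, 74), (47, 47), (80, 80)],
  [(45, 45), (16, 140), (15, 101), (0, 50), (80, 80)], [(4, 71), (20, 78), (4, 114), (0, 50), (80, 80)],
  [], [],
  [], [(0, 48), (0, 123), (123, 123), (3, 71), (80, 80)],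
  [(0, 48), (0, 123), (123, 123), (47, 47), (80, 80)], [(45, 45), (120, 120), (0, 120), (5, 51), (80, 80)],
  [], [(4, 71), (25, 160), (4, 114), (47, 47), (80, 80)],
  [(45, 45), (120, 120), (0, 120), (0, 50), (80, 80)], [(3, 51), (7, 114), (25, 163), (0, 50), (80, 80)],
  [], [],
  [], [(0, 48), (7, 114), (15, 101), (5, 51), (80, 80)],
  [(0, 48), (120, 120), (0, 120), (47, 47), (80, 80)], [(45, 45), (15, 98), (4, 114), (4, 61), (80, 80)],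
  [], [(3, 51), (120, 120), (0, 120), (47, 47), (80, 80)],
  [(45, 45), (0, 123), (123, 123), (0, 50), (80, 80)], [(5, 61), (0, 123), (123, 123), (0, 50), (80, 80)],
  [], [],
  [], [(0, 48), (12, 56), (25, 163), (10, 109), (80, 80)],
  [(0, 48), (120, 120), (0, 120), (47, 47), (80, 80)], [(45, 45), (25, 160), (9, 56), (9, 137), (80, 80)],
  [], [(11, 109), (120, 120), (0, 120), (47, 47), (80, 80)],
  [(45, 45), (0, 123), (123, 123), (0, 50), (80, 80)], [(10, 137), (0, 123), (123, 123), (0, 50), (80, 80)],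
  [], [(45, 45), (120, 120), (0, 120), (3, 71), (80, 80)],
  [(4, 71), (16, 140), (4, 114), (4, 61), (80, 80)], [(5, 61), (20, 78), (16, 144), (47, 47), (80, 80)],
  [(0, 48), (0, 123), (123, 123), (26, 152), (80, 80)], [(30, 150), (7, 114), (16, 144), (34, 102), (80, 80)],
  [(26, 100), (16, 140), (20, 74), (0, 50), (80, 80)], [(45, 45), (0, 123), (123, 123), (5, 51), (80, 80)],
  [(3, 51), (0, 123), (123, 123), (3, 71), (80, 80)], [(4, 71), (0, 123), (123, 123), (47, 47), (80, 80)],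
  [(0, 48), (120, 120), (0, 120), (24, 96), (80, 80)], [(16, 94), (120, 120), (0, 120), (20, 130), (80, 80)],
  [(24, 128), (120, 120), (0, 120), (0, 50), (80, 80)], [(45, 45), (52, 152), (4, 114), (4, 61), (80, 80)],
  [(5, 61), (120, 120), (0, 120), (5, 51), (80, 80)], [(3, 51), (15, 98), (16, 144), (47, 47), (80, 80)],
  [(0, 48), (7, 114), (52, 149), (16, 164), (80, 80)], [(20, 162), (0, 123), (123, 123), (24, 96), (80, 80)],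
  [(16, 94), (16, 140), (15, 101), (0, 50), (80, 80)], [],
  [], [(0, 48), (16, 140), (9, 56), (9, 137), (80, 80)],
  [(0, 48), (20, 78), (15, 101), (47, 47), (80, 80)], [(45, 45), (12, 56), (16, 144), (11, 81), (80, 80)],
  [], [(10, 137), (12, 56), (26, 84), (47, 47), (80, 80)],
  [(45, 45), (15, 98), (20, 74), (0, 50), (80, 80)], [(9, 81), (26, 88), (9, 56), (0, 50), (80, 80)],
  [], [(45, 45), (16, 140), (15, 101), (3, 71), (80, 80)],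
  [(4, 71), (120, 120), (0, 120), (4, 61), (80, 80)], [(5, 61), (20, 78), (15, 101), (47, 47), (80, 80)],
  [(0, 48), (15, 98), (16, 144), (24, 96), (80, 80)], [(16, 94), (0, 123), (123, 123), (20, 130), (80, 80)],
  [(24, 128), (15, 98), (18, 146), (0, 50), (80, 80)], [(45, 45), (16, 140), (20, 74), (5, 51), (80, 80)],
  [(3, 51), (20, 78), (9, 56), (3, 71), (80, 80)], [(4, 71), (120, 120), (0, 120), (47, 47), (80, 80)],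
  [(0, 48), (20, 78), (16, 144), (34, 102), (80, 80)], [(26, 100), (12, 56), (20, 74), (30, 136), (80, 80)],
  [(34, 134), (0, 123), (123, 123), (0, 50), (80, 80)], [(45, 45), (120, 120), (0, 120), (4, 61), (80, 80)],
  [(5, 61), (15, 98), (9, 56), (5, 51), (80, 80)], [(3, 51), (26, 88), (18, 146), (47, 47), (80, 80)],
  [(0, 48), (0, 123), (123, 123), (20, 130), (80, 80)], [(24, 128), (12, 56), (15, 101), (16, 164), (80, 80)],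
  [(20, 162), (22, 146), (26, 84), (0, 50), (80, 80)], [],
  [], [(0, 48), (0, 123), (123, 123), (11, 81), (80, 80)],
  [(0, 48), (0, 123), (123, 123), (47, 47), (80, 80)], [(45, 45), (120, 120), (0, 120), (10, 109), (80, 80)],
  [], [(9, 81), (15, 98), (9, 56), (47, 47), (80, 80)],
  [(45, 45), (120, 120), (0, 120), (0, 50), (80, 80)], [(11, 109), (12, 56), (15, 101), (0, 50), (80, 80)],
  [], [(45, 45), (34, 64), (18, 146), (3, 71), (80, 80)],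
  [(4, 71), (15, 98), (4, 114), (4, 61), (80, 80)], [(5, 61), (120, 120), (0, 120), (47, 47), (80, 80)],
  [(0, 48), (22, 146), (34, 68), (16, 164), (80, 80)], [(20, 162), (7, 114), (15, 101), (24, 96), (80, 80)],
  [(16, 94), (0, 123), (123, 123), (0, 50), (80, 80)], [(45, 45), (15, 98), (20, 74), (5, 51), (80, 80)],
  [(3, 51), (120, 120), (0, 120), (3, 71), (80, 80)], [(4, 71), (60, 94), (4, 114), (47, 47), (80, 80)],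
  [(0, 48), (20, 78), (15, 101), (20, 130), (80, 80)], [(24, 128), (0, 123), (123, 123), (16, 164), (80, 80)],
  [(20, 162), (7, 114), (60, 91), (0, 50), (80, 80)], [(45, 45), (0, 123), (123, 123), (4, 61), (80, 80)],
  [(5, 61), (0, 123), (123, 123), (5, 51), (80, 80)], [(3, 51), (0, 123), (123, 123), (47, 47), (80, 80)],
  [(0, 48), (120, 120), (0, 120), (30, 136), (80, 80)], [(34, 134), (120, 120), (0, 120), (26, 152), (80, 80)],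
  [(30, 150), (120, 120), (0, 120), (0, 50), (80, 80)]]

/-- Conjugators for products of two orthogonal transvections. -/
def witData : List (List ℕ) := [
  [], [], [], [], [], [], [], [], [], [],
  [], [], [], [], [], [1, 0], [2, 0], [], [], [],
  [1, 0], [], [], [], [1, 0], [1, 0], [1, 0], [], [], [],
  [1, 0], [], [], [], [2, 0], [4, 0], [1, 0], [], [], [],
  [1, 0], [], [], [], [1, 0], [], [], [], [], [],
  [], [1, 0], [1, 0], [], [], [], [1, 0], [], [], [],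
  [2, 0], [1, 0], [3, 0], [], [], [], [1, 0], [], [], [],
  [1, 0], [1, 0], [1, 0], [], [], [], [2, 0], [], [], [],
  [1, 0], [1, 0], [1, 0], [], [], [], [2, 0], [], [], [],
  [1, 0], [], [], [], [], [], [], [], [], [],
  [], [], [], [], [], [], [], [], [], [1, 0],
  [1, 0], [], [], [], [1, 0], [], [], [], [2, 0], [],
  [], [], [], [], [], [], [], [], [], [],
  [], [], [], [], [], [], [], [1, 0], [3, 0], [],
  [], [], [1, 0], [], [], [], [1, 0], [], [], [],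
  [], [], [], [], [], [], [], [], [], [],
  [], [], [], [], []]

/-- The point orthogonal to four generators. -/
def perpPt : ℕ := 35

end CfsgLib.Spor.SUFiveRad
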