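/-
The tables of the five generators acting on the isotropic points, as functions.
-/
import Cfsg.Agent.Lib.Spor.SUFiveRad.Points
import Cfsg.Agent.Lib.Spor.SUFiveRad.Rels

set_option autoImplicit false

namespace CfsgLib.Spor.SUFiveRad

open CfsgLib.Spor.Fi22.U6

/-- The point of a generator. -/
def genPt (k : ℕ) : ℕ := genPts.getD k 0

/-- A generator on a point. -/
def fv (k i : ℕ) : ℕ := (tbl.getD k []).getD i i

/-- A word on a point. -/
def fw (w : List ℕ) (i : ℕ) : ℕ := w.foldr fv i

/-- The coordinates of a point. -/
def pv (i : ℕ) : Fin 5 → Four := fun t => (pts.getD i []).getD t .o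

/-- The hermitian form. -/
def hf (x y : Fin 5 → Four) : Four :=
  x 0 * (y 0 * y 0) + x 1 * (y 1 * y 1) + x 2 * (y 2 * y 2) + x 3 * (y 3 * y 3) + x 4 * (y 4 * y 4)

/-- The five coordinates. -/
def five : List (Fin 5) := [0, 1, 2, 3, 4]

/-- The four scalars. -/
def scalars : List Four := [.o, .e, .w, .u]

/-- The three nonzero scalars. -/
def units : List Four := [.e, .w, .u]

/-- All vectors. -/
def vecs : List (Fin 5 → Four) :=
  scalars.flatMap fun a => scalars.flatMap fun b => scalars.flatMap fun c =>
    scalars.flatMap fun d => scalars.map fun e => ![a, b, c, d, e]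

theorem mem_five : ∀ t : Fin 5, t ∈ five := by decide

theorem mem_scalars : ∀ x : Four, x ∈ scalars := by decide

theorem mem_vecs (v : Fin 5 → Four) : v ∈ vecs := by
  simp only [vecs, List.mem_flatMap, List.mem_map]
  refine ⟨v 0, mem_scalars _, v 1, mem_scalars _, v 2, mem_scalars _, v 3, mem_scalars _, v 4, mem_scalars _, ?_⟩
  funext i
  fin_cases i <;> rfl

/-- The points are isotropic and nonzero, their images are points, and distinct points are not proportional. -/
def ptsOK : Bool :=
  ((List.range 165).all fun i => (hf (pv i) (pv i) == 0) && five.any fun t => pv i t != 0) &&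
    ((List.range 165).all fun i => (List.range 165).all fun j =>
      (i == j) || units.all fun c => five.any fun t => pv i t != c * pv j t)

/-- The tables agree with the transvections. -/
def tblOK : Bool :=
  (List.range 5).all fun k => (genPt k < 165) && (List.range 165).all fun i => (fv k i < 165) &&
    units.any fun c => five.all fun t =>
      pv i t + hf (pv i) (pv (genPt k)) * pv (genPt k) t == c * pv (fv k i) t

/-- Every nonzero isotropic vector is a multiple of a point. -/
def allOK : Bool :=
  vecs.all fun v => (hf v v != 0) || (five.all fun t => v t == 0) ||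
    (List.range 165).any fun i => units.any fun c => five.all fun t => v t == c * pv i t

theorem ptsOK_eq : ptsOK = true := by decide +kernel

theorem tblOK_eq : tblOK = true := by decide +kernel

theorem allOK_eq : allOK = true := by decide +kernel

theorem fv_lt {k i : ℕ} (hk : k < 5) (hi : i < 165) : fv k i < 165 := by
  have h := tblOK_eq
  simp only [tblOK, List.all_eq_true, List.mem_range, Bool.and_eq_true, decide_eq_true_eq] at h
  exact ((h k hk).2 i hi).1

theorem genPt_lt {k : ℕ} (hk : k < 5) : genPt k < 165 := by
  have h := tblOK_eq
  simp only [tblOK, List.all_eq_true, List.mem_range, Bool.and_eq_true, decide_eq_true_eq] at h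
  exact (h k hk).1

theorem fw_lt {i : ℕ} (hi : i < 165) : ∀ {w : List ℕ}, (∀ x ∈ w, x < 5) → fw w i < 165 := by
  intro w
  induction w with
  | nil => intro _; exact hi
  | cons x w ih => intro h; exact fv_lt (h x (by simp)) (ih fun y hy => h y (by simp [hy]))

theorem fw_append (v w : List ℕ) (i : ℕ) : fw (v ++ w) i = fw v (fw w i) := by
  simp [fw, List.foldr_append]

end CfsgLib.Spor.SUFiveRad
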