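/-
Checks on the tables: words, orthogonality, generation by perpendicular points, and witnesses.
-/
import Cfsg.Agent.Lib.Spor.SUFiveRad.Table

set_option autoImplicit false
set_option maxRecDepth 100000

namespace CfsgLib.Spor.SUFiveRad

/-- A point as a conjugate of a generator. -/
def conjWord (i : ℕ) : List ℕ := (conjData.getD i ([], 0)).1

/-- The generator of a point. -/
def conjGen (i : ℕ) : ℕ := (conjData.getD i ([], 0)).2

/-- The word of the transvection at a point. -/
def wordOf (i : ℕ) : List ℕ := conjWord i ++ [conjGen i] ++ (conjWord i).reverse

/-- The word carrying the first point to a point. -/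
def pathTo (i : ℕ) : List ℕ := pathData.getD i []

/-- Two points are orthogonal. -/
def orth (i j : ℕ) : Bool := fw (wordOf i) j == j

/-- The word moves some point. -/
def movesSome (w : List ℕ) : Bool := (List.range 165).any fun i => fw w i != i

/-- The word fixes all points. -/
def fixesAll (w : List ℕ) : Bool := (List.range 165).all fun i => fw w i == i

/-- All letters are generators. -/
def letters (k : ℕ) (w : List ℕ) : Bool := w.all fun x => decide (x < k)

/-- The conjugation data. -/
def conjOK : Bool :=
  (List.range 165).all fun i => letters 5 (conjWord i) && decide (conjGen i < 5) &&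
    (fw (conjWord i) (genPt (conjGen i)) == i) && letters 5 (pathTo i) && (fw (pathTo i) 0 == i)

/-- Every generator is reached from the points orthogonal to one of two neighbours. -/
def nbOK : Bool :=
  (List.range 165).all fun j => orth 0 j || (List.range 5).all fun k =>
    let ab := (nbData.getD j []).getD k (0, 0)
    decide (ab.1 < 165) && decide (ab.2 < 165) && (orth ab.1 0 || orth ab.1 j) && (orth ab.2 0 || orth ab.2 j) &&
      (fw (wordOf ab.1) ab.2 == genPt k)

/-- The product of two orthogonal transvections and a conjugate of it. -/
def pairWord (j : ℕ) : List ℕ :=
  let x := wordOf 0 ++ wordOf j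
  x ++ (witData.getD j [] ++ x ++ (witData.getD j []).reverse)

/-- Products of two orthogonal transvections are not three-transpositions. -/
def witOK : Bool :=
  (List.range 165).all fun j => (j == 0) || !orth 0 j ||
    letters 5 (witData.getD j []) && movesSome (pairWord j ++ pairWord j) &&
      movesSome (pairWord j ++ pairWord j ++ pairWord j)

/-- The relators hold, with the right exponent, and have the shape of a conjugate times a generator. -/
def relOK : Bool :=
  relsA.all fun r =>
    let w := r.1.dropLast
    let p := w.take (w.length / 2)
    let m := w.getD (w.length / 2) 5
    let j := r.1.getLastD 5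
    letters 5 p && decide (m < 5) && decide (j < 5) && (r.1 == p ++ [m] ++ p.reverse ++ [j]) &&
      (r.2 == 2 || r.2 == 3) && movesSome r.1 && fixesAll (CfsgLib.Spor.TC.powWord r.1 r.2)

/-- The first letters of the word of odd length. -/
def oddHead : List ℕ := oddWord.take 18

/-- The word of odd length is trivial and made of letters orthogonal to one point. -/
def oddOK : Bool :=
  fixesAll oddWord && letters 4 oddHead && (oddWord == oddHead ++ wordOf perpPt) &&
    ((List.range 4).all fun k => orth (genPt k) perpPt) && decide (perpPt < 165)

theorem conjOK_eq : conjOK = true := by decide +kernel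

theorem nbOK_eq : nbOK = true := by decide +kernel

theorem witOK_eq : witOK = true := by decide +kernel

theorem relOK_eq : relOK = true := by decide +kernel

theorem oddOK_eq : oddOK = true := by decide +kernel

end CfsgLib.Spor.SUFiveRad
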