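/-
The unitary group in dimension five over four elements: its transvections, and its involutions as products of
commuting transvections.
-/
import Cfsg.Agent.Lib.Spor.SUFiveRad.Table
import Cfsg.Agent.Lib.SU.CenterCard
import Cfsg.Agent.Lib.Classical.HermOrder
import Cfsg.Agent.S1631

set_option autoImplicit false

namespace CfsgLib.Spor.SUFiveRad

open Matrix CfsgLib.SU CfsgLib.Spor.Fi22.U6
open Cfsg.Agent.S1631 (Is is_smul is_unique is_conj is_sq two_zero)

/-- What is used about the unitary group. -/
structure Model (K : Type*) [Group K] where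
  /-- The transvection at a point. -/
  a : ℕ → K
  sq : ∀ i < 165, a i * a i = 1
  conj : ∀ k < 5, ∀ i < 165, a (genPt k) * a i * a (genPt k) = a (fv k i)
  inj : ∀ i < 165, ∀ j < 165, a i = a j → i = j
  gen : Subgroup.closure (a '' Set.Iio 165) = ⊤
  center : Subgroup.center K = ⊥
  card : Nat.card K = 13685760
  invol : ∀ x : K, x * x = 1 → x ≠ 1 → (∃ i < 165, x = a i) ∨
    ∃ i < 165, ∃ j < 165, i ≠ j ∧ Commute (a i) (a j) ∧ x = a i * a j

section involutions

variable {F : Type} [Field F] [Fintype F] {n : ℕ} (C : UCtx F 2)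

/-- The fixed space. -/
noncomputable def fixed (g : ↥(Cfsg.SU n F 2)) : Submodule F (Fin n → F) :=
  LinearMap.ker (g.1.1 - 1).mulVecLin

theorem mem_fixed {g : ↥(Cfsg.SU n F 2)} {w : Fin n → F} : w ∈ fixed g ↔ g.1.1 *ᵥ w = w := by
  simp [fixed, Matrix.sub_mulVec, sub_eq_zero]

theorem half_le_fixed (hF : Fintype.card F = 4) {g : ↥(Cfsg.SU n F 2)} (hg : g * g = 1) :
    n ≤ 2 * Module.finrank F (fixed g) := by
  have h := LinearMap.finrank_range_add_finrank_ker (g.1.1 - 1).mulVecLin
  have hle : LinearMap.range (g.1.1 - 1).mulVecLin ≤ fixed g := by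
    rintro _ ⟨v, rfl⟩
    have h2 := two_zero hF
    have hgg : g.1.1 *ᵥ (g.1.1 *ᵥ v) = v := by rw [← suMat_mulVec_mul, hg, su_one_mulVec]
    rw [mem_fixed, Matrix.mulVecLin_apply, Matrix.sub_mulVec, Matrix.one_mulVec, Matrix.mulVec_sub, hgg]
    have : ∀ a b : F, a - b = b - a := fun a b => by linear_combination (a - b) * h2
    exact funext fun i => this _ _
  have h1 := Submodule.finrank_mono hle
  rw [Module.finrank_fin_fun] at h
  change _ + Module.finrank F (fixed g) = n at h
  omega

/-- An involution is made to fix more by a commuting transvection. -/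
theorem invol_step (hF : Fintype.card F = 4) {g : ↥(Cfsg.SU n F 2)} (hg : g * g = 1) (hg1 : g ≠ 1) :
    ∃ (q : Fin n → F) (t : ↥(Cfsg.SU n F 2)) (v : Fin n → F), q ≠ 0 ∧ C.form q q = 0 ∧ Is C q t ∧
      Commute t g ∧ fixed g < fixed (t * g) ∧ (∀ w ∈ fixed g, C.form w q = 0) ∧ q ∈ fixed g ∧
      v ∈ fixed (t * g) ∧ C.form v q = 1 := by
  have h2 : (2 : F) = 0 := two_zero hF
  have hneg : ∀ a : F, a + a = 0 := fun a => by linear_combination a * h2
  have hgg : ∀ v, g.1.1 *ᵥ (g.1.1 *ᵥ v) = v := fun v => by rw [← suMat_mulVec_mul, hg, su_one_mulVec]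
  let N : (Fin n → F) → Fin n → F := fun v => g.1.1 *ᵥ v + v
  have hN : ∀ v w, C.form (N v) w = C.bar (C.form (N w) v) := fun v w => by
    have e : C.form (g.1.1 *ᵥ v) w = C.form v (g.1.1 *ᵥ w) := by
      conv_lhs => rw [← hgg w]
      rw [C.form_su]
    simp only [N, C.form_add_left, map_add, C.bar_form, e]
  obtain ⟨v, hv⟩ : ∃ v, C.form (N v) v ≠ 0 := by
    by_contra! h
    have hz : ∀ v w, C.form (N v) w = 0 := by
      intro v w
      have key : ∀ c : F, c * C.bar (C.form (N v) w) + C.bar c * C.form (N v) w = 0 := fun c => by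
        have := h (v + c • w)
        have e : N (v + c • w) = N v + c • N w := by
          simp only [N, Matrix.mulVec_add, Matrix.mulVec_smul, smul_add]; abel
        rw [e, C.form_add_left, C.form_add_right, C.form_add_right, C.form_smul_left, C.form_smul_left,
          C.form_smul_right, C.form_smul_right, h, h, hN w v, mul_zero, mul_zero, add_zero, zero_add] at this
        linear_combination this
      obtain ⟨y, -, hy⟩ := C.exists_trace_ne_zero
      have h1 := key 1
      rw [map_one, one_mul, one_mul] at h1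
      have h3 := key y
      have : (y + C.bar y) * C.form (N v) w = 0 := by
        linear_combination h3 - y * h1 + y * C.form (N v) w * h2
      exact (mul_eq_zero.1 this).resolve_left hy
    apply hg1
    refine su_ext fun v => ?_
    have := C.eq_zero_of_form (hz v)
    rw [su_one_mulVec]
    funext i
    have := congrFun this i
    simp only [N, Pi.add_apply, Pi.zero_apply] at this
    linear_combination this - v i * h2
  have h1 : C.form (N v) v = 1 := by
    have hfix : C.form (N v) v = C.bar (C.form (N v) v) := hN v v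
    rw [C.bar_eq, sq] at hfix
    exact (mul_right_cancel₀ hv (by rw [one_mul]; exact hfix)).symm
  have hvq : C.form v (N v) = 1 := by rw [← C.bar_form, h1, map_one]
  have hgq : g.1.1 *ᵥ N v = N v := by simp only [N, Matrix.mulVec_add, hgg]; abel
  have hqq : C.form (N v) (N v) = 0 := by
    calc C.form (N v) (N v) = C.form (g.1.1 *ᵥ N v) (g.1.1 *ᵥ v) + C.form (N v) v := by
          rw [hgq]; exact C.form_add_right _ _ _
      _ = 0 := by rw [C.form_su, h1]; exact hneg 1
  have hq0 : N v ≠ 0 := fun h => hv (by rw [h, C.form_zero_left])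
  let t := C.tv (N v) hqq 1 (by rw [map_one]; exact hneg 1)
  have ht : Is C (N v) t := fun x => (C.tv_mulVec _ hqq _ _ x).trans (by rw [one_mul])
  have hperp : ∀ w, g.1.1 *ᵥ w = w → C.form w (N v) = 0 := fun w hw => by
    have e : C.form w (g.1.1 *ᵥ v) = C.form w v := by
      conv_lhs => rw [← hw]
      rw [C.form_su]
    simp only [N, C.form_add_right, e, hneg]
  have hvfix : v ∈ fixed (t * g) := by
    rw [mem_fixed, suMat_mulVec_mul]
    have e : g.1.1 *ᵥ v = N v + v := by
      simp only [N]; funext i; simp only [Pi.add_apply]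
      linear_combination -(v i) * h2
    rw [e, ht, C.form_add_left, hqq, hvq, zero_add, one_smul]
    funext i; simp only [Pi.add_apply]; linear_combination (N v i) * h2
  refine ⟨N v, t, v, hq0, hqq, ht, ?_, ?_, fun w hw => hperp w (mem_fixed.1 hw), mem_fixed.2 hgq, hvfix, hvq⟩
  · have := is_conj C ht g
    rw [hgq] at this
    have e := is_unique C this ht
    exact (mul_inv_eq_iff_eq_mul.1 e).symm
  · rw [SetLike.lt_iff_le_and_exists]
    refine ⟨fun w hw => ?_, v, hvfix, fun h => hq0 ?_⟩
    · rw [mem_fixed] at hw ⊢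
      rw [suMat_mulVec_mul, hw, ht, hperp w hw, zero_smul, add_zero]
    · rw [mem_fixed] at h
      simp only [N, h]; funext i; exact hneg _

theorem eq_one_of_fixed {g : ↥(Cfsg.SU n F 2)} (h : n ≤ Module.finrank F (fixed g)) : g = 1 := by
  have ht : fixed g = ⊤ := by
    refine Submodule.eq_top_of_finrank_eq (le_antisymm (Submodule.finrank_le _) ?_)
    rwa [Module.finrank_fin_fun]
  refine su_ext fun x => ?_
  rw [su_one_mulVec, ← mem_fixed, ht]
  trivial

/-- In dimension five an involution is a transvection or a product of two. -/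
theorem invol_cases (hF : Fintype.card F = 4) {g : ↥(Cfsg.SU 5 F 2)} (hg : g * g = 1) (hg1 : g ≠ 1) :
    (∃ q, q ≠ 0 ∧ C.form q q = 0 ∧ Is C q g) ∨ ∃ q r t s, q ≠ 0 ∧ C.form q q = 0 ∧ Is C q t ∧ r ≠ 0 ∧
      C.form r r = 0 ∧ Is C r s ∧ Commute t s ∧ t ≠ s ∧ g = t * s := by
  have h0 := half_le_fixed hF hg
  obtain ⟨q, t, -, hq, hqq, ht, hc, hlt, -, -, -, -⟩ := invol_step C hF hg hg1
  have ht2 := is_sq C hF hqq ht
  by_cases h1 : t * g = 1
  · left
    refine ⟨q, hq, hqq, ?_⟩
    rwa [show g = t from (mul_left_cancel (ht2.trans h1.symm)).symm]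
  right
  have hsq : (t * g) * (t * g) = 1 := by rw [hc.symm.mul_mul_mul_comm, ht2, hg, one_mul]
  obtain ⟨r, s, -, hr, hrr, hs, hc', hlt', -, -, -, -⟩ := invol_step C hF hsq h1
  have hs2 := is_sq C hF hrr hs
  have hone : s * (t * g) = 1 := eq_one_of_fixed (by
    have := Submodule.finrank_lt_finrank_of_lt hlt
    have := Submodule.finrank_lt_finrank_of_lt hlt'
    omega)
  have hs' : t * g = s := mul_left_cancel (hone.trans hs2.symm)
  have hg' : g = t * s := by rw [← hs', ← mul_assoc, ht2, one_mul]
  refine ⟨q, r, t, s, hq, hqq, ht, hr, hrr, hs, ?_, fun h => hg1 (by rw [hg', ← h, ht2]), hg'⟩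
  rw [← hs']
  exact (Commute.refl t).mul_right hc

end involutions

/-- The model exists over every field with four elements. -/
theorem exists_model (F : Type) [Field F] [Fintype F] (hF : Fintype.card F = 4) :
    Nonempty (Model ↥(Cfsg.SU 5 F 2)) := by
  classical
  obtain ⟨C⟩ := CfsgLib.Classical.uctx_exists (q := 2) (by rw [hF]; norm_num : Fintype.card F = 2 ^ 2)
  let φ : Four ≃+* F := FiniteField.ringEquivOfCardEq (by rw [hF, Four.card_four])
  let vec : (Fin 5 → Four) → Fin 5 → F := fun v t => φ (v t)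
  have hform : ∀ x y, C.form (vec x) (vec y) = φ (hf x y) := fun x y => by
    simp only [UCtx.form, hf, Fin.sum_univ_five, vec, C.bar_eq, sq, map_add, map_mul]
  have hsmul : ∀ (c : Four) x, vec (fun t => c * x t) = φ c • vec x := fun c x => by
    funext t; simp [vec]
  have hp := ptsOK_eq
  simp only [ptsOK, Bool.and_eq_true, List.all_eq_true, List.mem_range, List.any_eq_true, bne_iff_ne,
    beq_iff_eq, Bool.or_eq_true] at hp
  have hiso : ∀ i < 165, C.form (vec (pv i)) (vec (pv i)) = 0 := fun i hi => by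
    rw [hform, (hp.1 i hi).1, map_zero]
  have hne : ∀ i < 165, vec (pv i) ≠ 0 := fun i hi h => by
    obtain ⟨t, -, ht⟩ := (hp.1 i hi).2
    exact ht (φ.injective (by rw [map_zero]; exact congrFun h t))
  have h2 : (2 : F) = 0 := two_zero hF
  let a : ℕ → ↥(Cfsg.SU 5 F 2) := fun i =>
    if h : C.form (vec (pv i)) (vec (pv i)) = 0 then C.tv (vec (pv i)) h 1 (by rw [map_one]; linear_combination h2)
    else 1
  have ha : ∀ i < 165, Is C (vec (pv i)) (a i) := fun i hi v => by
    simp only [a, dif_pos (hiso i hi)]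
    rw [C.tv_mulVec, one_mul]
  have hsq : ∀ i < 165, a i * a i = 1 := fun i hi => is_sq C hF (hiso i hi) (ha i hi)
  have hmem : ∀ (q : Fin 5 → F) (t), q ≠ 0 → C.form q q = 0 → Is C q t → ∃ i < 165, t = a i := by
    intro q t hq hqq ht
    have hall := allOK_eq
    simp only [allOK, List.all_eq_true, Bool.or_eq_true, bne_iff_ne, List.any_eq_true, List.mem_range,
      beq_iff_eq] at hall
    have hv : q = vec fun j => φ.symm (q j) := by funext j; simp [vec]
    rcases hall _ (mem_vecs fun j => φ.symm (q j)) with (h | h) | ⟨i, hi, c, hc, hci⟩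
    · rw [hv, hform] at hqq
      exact absurd ((map_eq_zero_iff φ φ.injective).1 hqq) h
    · exact absurd (funext fun j => by simpa using h j (mem_five j)) hq
    · refine ⟨i, hi, is_unique C ht ?_⟩
      rw [hv, show (fun j => φ.symm (q j)) = fun j => c * pv i j from funext fun j => hci j (mem_five j), hsmul]
      exact is_smul C hF (ha i hi) ((map_ne_zero_iff φ φ.injective).2 (by rintro rfl; revert hc; decide))
  have hgen : Subgroup.closure (a '' Set.Iio 165) = ⊤ := by
    rw [eq_top_iff, ← (Cfsg.Agent.S1631.result F hF 5 (by norm_num)).2.2, Subgroup.closure_le]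
    intro g hg
    have hg2 : g * g = 1 := by
      have := (Cfsg.Agent.S1631.result F hF 5 (by norm_num)).1.1 g hg
      have h' := pow_orderOf_eq_one g
      rwa [this, pow_two] at h'
    have hg1 : g ≠ 1 := fun e => by
      have := (Cfsg.Agent.S1631.result F hF 5 (by norm_num)).1.1 g hg
      rw [e, orderOf_one] at this
      exact absurd this (by norm_num)
    have hm : ∀ q t, q ≠ 0 → C.form q q = 0 → Is C q t → t ∈ Subgroup.closure (a '' Set.Iio 165) := by
      intro q t hq hqq ht
      obtain ⟨i, hi, rfl⟩ := hmem q t hq hqq ht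
      exact Subgroup.subset_closure ⟨i, hi, rfl⟩
    rcases invol_cases C hF hg2 hg1 with ⟨q, hq, hqq, h⟩ | ⟨q, r, t, s, hq, hqq, ht, hr, hrr, hs, -, -, rfl⟩
    · exact hm q g hq hqq h
    · exact mul_mem (hm q t hq hqq ht) (hm r s hr hrr hs)
  refine ⟨⟨a, hsq, ?_, ?_, hgen, ?_, ?_, ?_⟩⟩
  · intro k hk i hi
    have hg := genPt_lt hk
    have htb := tblOK_eq
    simp only [tblOK, List.all_eq_true, List.mem_range, Bool.and_eq_true, decide_eq_true_eq, List.any_eq_true,
      beq_iff_eq] at htb
    obtain ⟨-, c, hc, hct⟩ := (htb k hk).2 i hi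
    have h1 := is_conj C (ha i hi) (a (genPt k))
    rw [inv_eq_of_mul_eq_one_right (hsq _ hg), ha _ hg, hform] at h1
    refine is_unique C h1 ?_
    have e : vec (pv i) + φ (hf (pv i) (pv (genPt k))) • vec (pv (genPt k)) =
        vec fun t => c * pv (fv k i) t := by
      funext t
      have := congrArg φ (hct t (mem_five t))
      rw [map_add, map_mul] at this
      exact this
    rw [e, hsmul]
    exact is_smul C hF (ha _ (fv_lt hk hi)) ((map_ne_zero_iff φ φ.injective).2 (by rintro rfl; revert hc; decide))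
  · intro i hi j hj hij
    by_contra hne'
    obtain ⟨v, hv⟩ := C.exists_form_eq_one (hne i hi)
    have h1 := (ha i hi v).symm.trans (hij ▸ ha j hj v)
    rw [hv, one_smul, add_right_inj] at h1
    have hc0 : C.form v (vec (pv j)) ≠ 0 := fun e => hne i hi (by rw [h1, e, zero_smul])
    set c := φ.symm (C.form v (vec (pv j))) with hc
    have hcu : c ∈ units := (by decide : ∀ x : Four, x ≠ 0 → x ∈ units) c
      fun e => hc0 (by rw [← φ.apply_symm_apply (C.form v _), ← hc, e, map_zero])
    rw [← φ.apply_symm_apply (C.form v _), ← hc, ← hsmul] at h1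
    obtain ⟨t, -, ht⟩ := (hp.2 i hi j hj).resolve_left hne' c hcu
    exact ht (φ.injective (congrFun h1 t))
  · exact Subgroup.eq_bot_of_card_eq _ (by
      rw [C.card_center_su (n := 5) (by rw [hF]; norm_num) (by norm_num)]
      norm_num)
  · have h := CfsgLib.Classical.card_su_mul C (show Fintype.card F = 2 ^ 2 by rw [hF]; norm_num) (n := 5) (by norm_num)
    rw [CfsgLib.Classical.card_gu_formula C (show Fintype.card F = 2 ^ 2 by rw [hF]; norm_num)] at h
    simp only [Finset.prod_range_succ, Finset.prod_range_zero] at h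
    norm_num [Nat.even_iff] at h ⊢
    omega
  · intro x hx hx1
    rcases invol_cases C hF hx hx1 with ⟨q, hq, hqq, h⟩ | ⟨q, r, t, s, hq, hqq, ht, hr, hrr, hs, hc, hne', rfl⟩
    · exact Or.inl (hmem q x hq hqq h)
    · obtain ⟨i, hi, rfl⟩ := hmem q t hq hqq ht
      obtain ⟨j, hj, rfl⟩ := hmem r s hr hrr hs
      exact Or.inr ⟨i, hi, j, hj, fun e => hne' (by rw [e]), hc, rfl⟩

end CfsgLib.Spor.SUFiveRad
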