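/-
Consequences of the tables in the unitary group: words, perpendicular points and the class of 3-transpositions.
-/
import Cfsg.Agent.Lib.Spor.SUFiveRad.Model
import Cfsg.Agent.Lib.Spor.SUFiveRad.Checks

set_option autoImplicit false

namespace CfsgLib.Spor.SUFiveRad

open CfsgLib.Spor.TC

variable {K : Type*} [Group K] (M : Model K)

namespace Model

/-- The generators. -/
def gs (k : ℕ) : K := if k < 5 then M.a (genPt k) else 1

/-- The set of transvections. -/
def transv : Set K := M.a '' Set.Iio 165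

theorem gs_of_lt {k : ℕ} (h : k < 5) : M.gs k = M.a (genPt k) := if_pos h

theorem gs_sq (k : ℕ) : M.gs k * M.gs k = 1 := by
  unfold gs
  split_ifs with h
  · exact M.sq _ (genPt_lt h)
  · exact one_mul 1

theorem ev_mul_ev_reverse {G : Type*} [Group G] {g : ℕ → G} (hg : ∀ x, g x * g x = 1) (w : List ℕ) :
    ev g w * ev g w.reverse = 1 := by
  induction w with
  | nil => simp [ev]
  | cons x w ih =>
    rw [List.reverse_cons, ev_append, ev_cons, mul_assoc, ← mul_assoc (ev g w), ih, one_mul]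
    simp [ev, hg]

theorem ev_reverse {G : Type*} [Group G] {g : ℕ → G} (hg : ∀ x, g x * g x = 1) (w : List ℕ) :
    ev g w.reverse = (ev g w)⁻¹ :=
  (inv_eq_of_mul_eq_one_right (ev_mul_ev_reverse hg w)).symm

theorem ev_conj {w : List ℕ} (hw : ∀ x ∈ w, x < 5) {i : ℕ} (hi : i < 165) :
    ev M.gs w * M.a i * (ev M.gs w)⁻¹ = M.a (fw w i) := by
  induction w with
  | nil => simp [ev, fw]
  | cons x w ih =>
    have hx := hw x (by simp)
    have hw' : ∀ y ∈ w, y < 5 := fun y hy => hw y (by simp [hy])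
    rw [ev_cons, mul_inv_rev, show M.gs x * ev M.gs w * M.a i * ((ev M.gs w)⁻¹ * (M.gs x)⁻¹) =
      M.gs x * (ev M.gs w * M.a i * (ev M.gs w)⁻¹) * (M.gs x)⁻¹ by group, ih hw',
      inv_eq_of_mul_eq_one_right (M.gs_sq x), M.gs_of_lt hx, M.conj x hx _ (fw_lt hi hw')]
    rfl

theorem ev_eq_one {w : List ℕ} (hw : ∀ x ∈ w, x < 5) (h : fixesAll w = true) : ev M.gs w = 1 := by
  simp only [fixesAll, List.all_eq_true, List.mem_range, beq_iff_eq] at h
  have hle : Subgroup.closure (M.a '' Set.Iio 165) ≤ Subgroup.centralizer {ev M.gs w} := by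
    rw [Subgroup.closure_le]
    rintro _ ⟨i, hi, rfl⟩
    rw [SetLike.mem_coe, Subgroup.mem_centralizer_singleton_iff]
    have h1 := M.ev_conj hw hi
    rw [h i hi] at h1
    exact (mul_inv_eq_iff_eq_mul.1 h1).symm
  have hc : ev M.gs w ∈ Subgroup.center K := by
    rw [Subgroup.mem_center_iff]
    intro g
    rw [M.gen] at hle
    exact Subgroup.mem_centralizer_singleton_iff.1 (hle (Subgroup.mem_top g))
  rwa [M.center, Subgroup.mem_bot] at hc

theorem ev_ne_one {w : List ℕ} (hw : ∀ x ∈ w, x < 5) (h : movesSome w = true) : ev M.gs w ≠ 1 := by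
  simp only [movesSome, List.any_eq_true, List.mem_range, bne_iff_ne] at h
  obtain ⟨i, hi, hne⟩ := h
  intro e
  have h1 := M.ev_conj hw hi
  rw [e, one_mul, inv_one, mul_one] at h1
  exact hne (M.inj _ (fw_lt hi hw) _ hi h1.symm)

theorem conj_data {i : ℕ} (hi : i < 165) : (∀ x ∈ conjWord i, x < 5) ∧ conjGen i < 5 ∧
    fw (conjWord i) (genPt (conjGen i)) = i ∧ (∀ x ∈ pathTo i, x < 5) ∧ fw (pathTo i) 0 = i := by
  have h := conjOK_eq
  simp only [conjOK, letters, List.all_eq_true, List.mem_range, Bool.and_eq_true, decide_eq_true_eq,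
    beq_iff_eq] at h
  obtain ⟨⟨⟨⟨h1, h2⟩, h3⟩, h4⟩, h5⟩ := h i hi
  exact ⟨h1, h2, h3, h4, h5⟩

theorem wordOf_lt {i : ℕ} (hi : i < 165) : ∀ x ∈ wordOf i, x < 5 := by
  obtain ⟨h1, h2, -⟩ := conj_data hi
  intro x hx
  simp only [wordOf, List.mem_append, List.mem_singleton, List.mem_reverse] at hx
  rcases hx with (h | rfl) | h
  exacts [h1 x h, h2, h1 x h]

theorem ev_wordOf {i : ℕ} (hi : i < 165) : ev M.gs (wordOf i) = M.a i := by
  obtain ⟨h1, h2, h3, -⟩ := conj_data hi
  rw [wordOf, ev_append, ev_append, ev_reverse M.gs_sq, show ev M.gs [conjGen i] = M.gs (conjGen i) by simp [ev],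
    M.gs_of_lt h2, M.ev_conj h1 (genPt_lt h2), h3]

theorem closure_gs {S : Subgroup K} (h : ∀ k < 5, M.a (genPt k) ∈ S) : S = ⊤ := by
  rw [eq_top_iff, ← M.gen, Subgroup.closure_le]
  rintro _ ⟨i, hi, rfl⟩
  rw [← M.ev_wordOf hi]
  exact ev_mem fun x hx => M.gs_of_lt (wordOf_lt hi x hx) ▸ h x (wordOf_lt hi x hx)

theorem commute_iff {i j : ℕ} (hi : i < 165) (hj : j < 165) : Commute (M.a i) (M.a j) ↔ orth i j = true := by
  have h := M.ev_conj (wordOf_lt hi) hj
  rw [M.ev_wordOf hi] at h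
  rw [orth, beq_iff_eq]
  constructor
  · intro hc
    rw [hc.eq, mul_inv_cancel_right] at h
    exact (M.inj _ hj _ (fw_lt hj (wordOf_lt hi)) h).symm
  · intro e
    rw [e] at h
    exact mul_inv_eq_iff_eq_mul.1 h

theorem conj_transv {g : K} {i : ℕ} (hi : i < 165) : ∃ j < 165, g * M.a i * g⁻¹ = M.a j := by
  let S : Subgroup K :=
    { carrier := {g | ∀ i < 165, (∃ j < 165, g * M.a i * g⁻¹ = M.a j) ∧ ∃ j < 165, g⁻¹ * M.a i * g = M.a j}
      one_mem' := fun i hi => ⟨⟨i, hi, by simp⟩, i, hi, by simp⟩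
      mul_mem' := fun {x y} hx hy i hi => by
        refine ⟨?_, ?_⟩
        · obtain ⟨⟨j, hj, e⟩, -⟩ := hy i hi
          obtain ⟨⟨l, hl, e'⟩, -⟩ := hx j hj
          exact ⟨l, hl, by rw [← e', ← e]; group⟩
        · obtain ⟨-, j, hj, e⟩ := hx i hi
          obtain ⟨-, l, hl, e'⟩ := hy j hj
          exact ⟨l, hl, by rw [← e', ← e]; group⟩
      inv_mem' := fun {x} hx i hi => by
        obtain ⟨h1, h2⟩ := hx i hi
        rw [inv_inv]
        exact ⟨h2, h1⟩ }
  have hS : S = ⊤ := M.closure_gs fun k hk i hi => by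
    rw [inv_eq_of_mul_eq_one_right (M.sq _ (genPt_lt hk))]
    exact ⟨⟨_, fv_lt hk hi, M.conj k hk i hi⟩, ⟨_, fv_lt hk hi, M.conj k hk i hi⟩⟩
  exact ((hS ▸ Subgroup.mem_top g : g ∈ S) i hi).1

theorem transitive {i : ℕ} (hi : i < 165) : ev M.gs (pathTo i) * M.a 0 * (ev M.gs (pathTo i))⁻¹ = M.a i := by
  obtain ⟨-, -, -, h1, h2⟩ := conj_data hi
  rw [M.ev_conj h1 (by norm_num), h2]

/-- Two neighbours and the transvections orthogonal to one of them generate. -/
theorem nbr {u v : K} (hu : u ∈ M.transv) (hv : v ∈ M.transv) (h : ¬ Commute u v) :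
    Subgroup.closure {w | w ∈ M.transv ∧ (Commute w u ∨ Commute w v)} = ⊤ := by
  obtain ⟨i, hi, rfl⟩ := hu
  obtain ⟨j, hj, rfl⟩ := hv
  set g := ev M.gs (pathTo i)
  have hg : g * M.a 0 * g⁻¹ = M.a i := M.transitive hi
  obtain ⟨l, hl, hgl⟩ := M.conj_transv (g := g⁻¹) hj
  rw [inv_inv] at hgl
  have hj' : g * M.a l * g⁻¹ = M.a j := by rw [← hgl]; group
  set f := (MulAut.conj g).toMonoidHom with hfdef
  have hf : ∀ x, f x = g * x * g⁻¹ := fun x => rfl
  have hcomm : ∀ {x y : K}, Commute x y → Commute (f x) (f y) := fun hc => hc.map f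
  have hl0 : orth 0 l = false := by
    rw [Bool.eq_false_iff]
    intro e
    have := hcomm ((M.commute_iff (by norm_num) hl).2 e)
    rw [hf, hf, hg, hj'] at this
    exact h this
  have hnb := nbOK_eq
  simp only [nbOK, List.all_eq_true, List.mem_range, Bool.or_eq_true, Bool.and_eq_true, decide_eq_true_eq,
    beq_iff_eq] at hnb
  set S := {w | w ∈ M.transv ∧ (Commute w (M.a i) ∨ Commute w (M.a j))}
  have hS : (Subgroup.closure S).comap f = ⊤ := M.closure_gs fun k hk => by
    obtain ⟨⟨⟨⟨h1, h2⟩, h3⟩, h4⟩, h5⟩ := (hnb l hl).resolve_left (by rw [hl0]; simp) k hk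
    set p := ((nbData.getD l []).getD k (0, 0)).1
    set q := ((nbData.getD l []).getD k (0, 0)).2
    have hm : ∀ z < 165, orth z 0 = true ∨ orth z l = true → f (M.a z) ∈ Subgroup.closure S := by
      intro z hz hc
      obtain ⟨z', hz', e⟩ := M.conj_transv (g := g) hz
      refine Subgroup.subset_closure ⟨⟨z', hz', e.symm⟩, ?_⟩
      rcases hc with hc | hc
      · left
        have h := hcomm ((M.commute_iff hz (by norm_num)).2 hc)
        rwa [hf (M.a 0), hg] at h
      · right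
        have h := hcomm ((M.commute_iff hz hl).2 hc)
        rwa [hf (M.a l), hj'] at h
    rw [Subgroup.mem_comap]
    have e := M.ev_conj (wordOf_lt h1) h2
    rw [M.ev_wordOf h1, h5] at e
    rw [← e, map_mul, map_mul, map_inv]
    exact mul_mem (mul_mem (hm p h1 h3) (hm q h2 h4)) (inv_mem (hm p h1 h3))
  rw [eq_top_iff]
  intro x _
  have := hS ▸ Subgroup.mem_top (g⁻¹ * x * g)
  rw [Subgroup.mem_comap, hf] at this
  simpa [mul_assoc] using this

/-- A class of 3-transpositions consists of the transvections. -/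
theorem class_eq {E : Set K} (hne : E.Nonempty) (h1 : (1 : K) ∉ E) (hsq : ∀ x ∈ E, x * x = 1)
    (hconj : ∀ g : K, ∀ x ∈ E, g * x * g⁻¹ ∈ E)
    (h23 : ∀ x ∈ E, ∀ y ∈ E, (x * y) ^ 2 = 1 ∨ (x * y) ^ 3 = 1) : E = M.transv := by
  have hsub : E ⊆ M.transv := by
    intro x hx
    rcases M.invol x (hsq x hx) (fun e => h1 (e ▸ hx)) with ⟨i, hi, rfl⟩ | ⟨i, hi, j, hj, hne', hc, rfl⟩
    · exact ⟨i, hi, rfl⟩
    exfalso
    obtain ⟨-, -, -, hp, -⟩ := conj_data hi
    set g := ev M.gs (pathTo i)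
    obtain ⟨l, hl, hgl⟩ := M.conj_transv (g := g⁻¹) hj
    rw [inv_inv] at hgl
    have hgi : g⁻¹ * M.a i * g = M.a 0 := by
      have e : g * M.a 0 * g⁻¹ = M.a i := M.transitive hi
      rw [← e]; group
    have hx' : M.a 0 * M.a l ∈ E := by
      have := hconj g⁻¹ _ hx
      rwa [inv_inv, show g⁻¹ * (M.a i * M.a j) * g = (g⁻¹ * M.a i * g) * (g⁻¹ * M.a j * g) by group, hgi, hgl]
        at this
    have hl0 : l ≠ 0 := fun e => hne' (M.inj _ hi _ hj (by
      have := hgi.trans (e ▸ hgl).symm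
      exact mul_left_cancel (mul_right_cancel this)))
    have horth : orth 0 l = true := (M.commute_iff (by norm_num) hl).1 (by
      rw [← hgi, ← hgl]
      have := hc.map (MulAut.conj g⁻¹).toMonoidHom
      simpa using this)
    have hw := witOK_eq
    simp only [witOK, letters, List.all_eq_true, List.mem_range, Bool.or_eq_true, Bool.and_eq_true,
      decide_eq_true_eq, beq_iff_eq, Bool.not_eq_true'] at hw
    rcases hw l hl with (e | e) | ⟨⟨hh, hw2⟩, hw3⟩
    · exact hl0 e
    · rw [horth] at e; exact Bool.noConfusion e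
    set H := witData.getD l []
    have hxw : ev M.gs (wordOf 0 ++ wordOf l) = M.a 0 * M.a l := by
      rw [ev_append, M.ev_wordOf (by norm_num), M.ev_wordOf hl]
    have hy : ev M.gs (H ++ (wordOf 0 ++ wordOf l) ++ H.reverse) ∈ E := by
      rw [ev_append, ev_append, hxw, ev_reverse M.gs_sq]
      exact hconj _ _ hx'
    have hpw : ev M.gs (pairWord l) = ev M.gs (wordOf 0 ++ wordOf l) * ev M.gs (H ++ (wordOf 0 ++ wordOf l) ++ H.reverse) :=
      ev_append _ _ _
    have hlt : ∀ x ∈ pairWord l, x < 5 := by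
      intro x hx
      simp only [pairWord, List.mem_append, List.mem_reverse] at hx
      rcases hx with (h | h) | (h | h | h) | h
      exacts [wordOf_lt (by norm_num) x h, wordOf_lt hl x h, hh x h, wordOf_lt (by norm_num) x h,
        wordOf_lt hl x h, hh x h]
    have hmem : ev M.gs (wordOf 0 ++ wordOf l) ∈ E := hxw ▸ hx'
    rcases h23 _ hmem _ hy with e | e
    · refine M.ev_ne_one ?_ hw2 (by rw [ev_append, hpw, ← pow_two, e])
      intro x hx; rcases List.mem_append.1 hx with h | h <;> exact hlt x h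
    · refine M.ev_ne_one ?_ hw3 (by rw [ev_append, ev_append, hpw, ← e, pow_succ, pow_two])
      intro x hx
      rcases List.mem_append.1 hx with h | h
      · rcases List.mem_append.1 h with h | h <;> exact hlt x h
      · exact hlt x h
  refine Set.Subset.antisymm hsub ?_
  rintro _ ⟨i, hi, rfl⟩
  obtain ⟨x, hx⟩ := hne
  obtain ⟨j, hj, rfl⟩ := hsub hx
  have e : M.a i = (ev M.gs (pathTo i) * (ev M.gs (pathTo j))⁻¹) * M.a j *
      (ev M.gs (pathTo i) * (ev M.gs (pathTo j))⁻¹)⁻¹ := by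
    rw [← M.transitive hi, ← M.transitive hj]; group
  rw [e]
  exact hconj _ _ hx

end Model

end CfsgLib.Spor.SUFiveRad
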