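/-
A group generated by 3-transpositions over the unitary group in dimension five: the radical is elementary abelian
and five lifts generate a complement.
-/
import Cfsg.Agent.Lib.Spor.SUFiveRad.Facts
import Cfsg.Agent.Lib.Spor.SUFiveRad.Abel
import Cfsg.Agent.Lib.Spor.SUFiveRad.A.All
import Cfsg.Agent.Lib.Spor.SUFiveRad.B.All
import Cfsg.Agent.Lib.Spor.SUFiveRad.C.All
import Cfsg.Agent.Lib.Spor.SUFiveRad.W.All
import Cfsg.Prelude.Def_SporadicB

set_option autoImplicit false

namespace CfsgLib.Spor.SUFiveRad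

open CfsgLib.Spor.TC

theorem card_relsA : Nat.card (Pres 5 relsA) ≠ 0 ∧ Nat.card (Pres 5 relsA) ≤ 3960 * (128 * 54) :=
  A.cosetCert.card_le (l := 4) rfl (rels' := relsB) (by decide +kernel)
    (B.cosetCert.card_le (l := 3) rfl (rels' := relsC) (by decide +kernel) C.cosetCert.card_le_bot)

theorem card_relsW : Nat.card (Pres 5 relsW) ≠ 0 ∧ Nat.card (Pres 5 relsW) ≤ 1980 * (128 * 54) :=
  W.cosetCert.card_le (l := 4) rfl (rels' := relsB) (by decide +kernel)
    (B.cosetCert.card_le (l := 3) rfl (rels' := relsC) (by decide +kernel) C.cosetCert.card_le_bot)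

theorem card_closure_le {G : Type*} [Group G] [Finite G] {g : ℕ → G} {rels : List PowRel} (hs : Sat 5 rels g)
    {n : ℕ} (hn : Nat.card (Pres 5 rels) ≠ 0 ∧ Nat.card (Pres 5 rels) ≤ n) :
    Nat.card (Subgroup.closure (g '' Set.Iio 5)) ≤ n := by
  rw [← range_presHom hs]
  haveI := Nat.finite_of_card_ne_zero hn.1
  exact (Nat.card_le_card_of_surjective _ (presHom hs).rangeRestrict_surjective).trans hn.2

/-- Five lifts of the generators satisfy the relators. -/
theorem sat_of_lifts {G K L : Type*} [Group G] [Group K] [Group L] (M : Model K) (ψ : K →* L)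
    (hψ : Function.Injective ψ) (π : G →* L) {D : Set G} (g : ℕ → G) (hgD : ∀ k < 5, g k ∈ D)
    (hgsq : ∀ k, g k * g k = 1) (hgout : ∀ k, 5 ≤ k → g k = 1) (hev : ∀ w, π (ev g w) = ψ (ev M.gs w))
    (hpal : ∀ (p : List ℕ) (m : ℕ), m < 5 → ev g (p ++ [m] ++ p.reverse) ∈ D)
    (h23 : ∀ x ∈ D, ∀ y ∈ D, (x * y) ^ 2 = 1 ∨ (x * y) ^ 3 = 1) : Sat 5 relsA g := by
  refine ⟨hgsq, hgout, fun r hr => ?_⟩
  have h := relOK_eq
  simp only [relOK, letters, List.all_eq_true, Bool.and_eq_true, Bool.or_eq_true, decide_eq_true_eq,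
    beq_iff_eq] at h
  obtain ⟨⟨⟨⟨⟨⟨hp, hm⟩, hj⟩, hshape⟩, he⟩, hmov⟩, hfix⟩ := h r hr
  set w := r.1.dropLast
  set p := w.take (w.length / 2)
  set m := w.getD (w.length / 2) 5
  set j := r.1.getLastD 5
  have hlt : ∀ x ∈ r.1, x < 5 := fun x hx => by
    rw [hshape] at hx
    simp only [List.mem_append, List.mem_singleton, List.mem_reverse] at hx
    rcases hx with ((h | rfl) | h) | rfl
    exacts [hp x h, hm, hp x h, hj]
  have hne : π (ev g r.1) ≠ 1 := fun e => M.ev_ne_one hlt hmov (hψ (by rw [← hev, e, map_one]))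
  have hlt' : ∀ x ∈ powWord r.1 r.2, x < 5 := fun x hx => by
    revert hx
    generalize r.2 = n
    induction n with
    | zero => simp [powWord]
    | succ n ih => rw [powWord, List.mem_append]; rintro (h | h); exacts [hlt x h, ih h]
  have hpow : π (ev g r.1) ^ r.2 = 1 := by rw [hev, ← map_pow, ← ev_powWord, M.ev_eq_one hlt' hfix, map_one]
  have hxy := h23 _ (hpal p m hm) _ (hgD j hj)
  rw [show ev g (p ++ [m] ++ p.reverse) * g j = ev g r.1 by
    conv_rhs => rw [hshape]
    rw [ev_append g (p ++ [m] ++ p.reverse) [j]]; simp [ev]] at hxy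
  rcases he with e | e <;> rw [e] at hpow ⊢
  · refine hxy.resolve_right fun h => hne ?_
    have h3 : π (ev g r.1) ^ 3 = 1 := by rw [← map_pow, h, map_one]
    rwa [pow_succ, hpow, one_mul] at h3
  · refine hxy.resolve_left fun h => hne ?_
    have h2' : π (ev g r.1) ^ 2 = 1 := by rw [← map_pow, h, map_one]
    rwa [pow_succ, h2', one_mul] at hpow

theorem main {G K : Type*} [Group G] [Finite G] [Group K] (M : Model K) {D : Set G}
    (hD : Cfsg.IsThreeTranspositionClass D) (hZ : Subgroup.center G = ⊥) (π : G →* K)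
    (hπ : Function.Surjective π) (h2 : IsPGroup 2 π.ker) :
    Cfsg.IsElementaryAbelian 2 π.ker ∧ ∃ H : Subgroup G, π.ker.IsComplement' H := by
  classical
  obtain ⟨⟨hord, h23⟩, ⟨d₀, hd₀, hDeq⟩, hgen⟩ := hD
  have hsqD : ∀ d ∈ D, d * d = 1 := fun d hd => by
    have := pow_orderOf_eq_one d
    rwa [hord d hd, pow_two] at this
  have hconj : ∀ g : G, ∀ d ∈ D, g * d * g⁻¹ ∈ D := fun g d hd => by
    rw [hDeq] at hd ⊢; exact hd.trans (isConj_iff.2 ⟨g, rfl⟩)
  have hone : ∀ d ∈ D, ∀ e ∈ D, IsConj d e := fun d hd e he => by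
    rw [hDeq] at hd he; exact (IsConj.symm hd).trans he
  -- the image
  have hone' : (1 : K) ∉ π '' D := by
    rintro ⟨d, hd, hd1⟩
    have hle : D ⊆ (π.ker : Set G) := fun e he => by
      obtain ⟨g, rfl⟩ := isConj_iff.1 (hone d hd e he)
      exact MonoidHom.mem_ker.2 (by rw [map_mul, map_mul, hd1, mul_one, map_inv, mul_inv_cancel])
    have htop : π.ker = ⊤ := top_le_iff.1 (hgen ▸ (Subgroup.closure_le _).2 hle)
    obtain ⟨x, hx⟩ := hπ (M.a 0)
    have h0 : M.a 0 = 1 := hx ▸ MonoidHom.mem_ker.1 (htop ▸ Subgroup.mem_top x)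
    have : ∀ i < 165, M.a i = 1 := fun i hi => by
      obtain ⟨y, hy⟩ := hπ (M.a i)
      exact hy ▸ MonoidHom.mem_ker.1 (htop ▸ Subgroup.mem_top y)
    exact absurd (M.inj 1 (by norm_num) 0 (by norm_num) ((this 1 (by norm_num)).trans h0.symm)) one_ne_zero
  have hT : π '' D = M.transv := by
    refine M.class_eq ⟨_, d₀, hd₀, rfl⟩ hone' ?_ ?_ ?_
    · rintro _ ⟨d, hd, rfl⟩; rw [← map_mul, hsqD d hd, map_one]
    · rintro g _ ⟨d, hd, rfl⟩
      obtain ⟨x, rfl⟩ := hπ g
      exact ⟨x * d * x⁻¹, hconj x d hd, by rw [map_mul, map_mul, map_inv]⟩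
    · rintro _ ⟨d, hd, rfl⟩ _ ⟨e, he, rfl⟩
      rw [← map_mul, ← map_pow, ← map_pow]
      exact (h23 d hd e he).imp (fun h => by rw [h, map_one]) (fun h => by rw [h, map_one])
  have hO : Over π D := ⟨hsqD, h23, hconj, hone, hgen, hπ, h2, hZ, fun u hu v hv hn => by
    rw [hT] at hu hv ⊢; exact M.nbr hu hv hn⟩
  have hlift : ∀ k : ℕ, ∃ d : G, k < 5 → d ∈ D ∧ π d = M.a (genPt k) := fun k => by
    by_cases hk : k < 5
    · obtain ⟨d, hd, e⟩ : M.a (genPt k) ∈ π '' D := hT ▸ ⟨genPt k, genPt_lt hk, rfl⟩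
      exact ⟨d, fun _ => ⟨hd, e⟩⟩
    · exact ⟨1, fun h => absurd h hk⟩
  choose dl hdl using hlift
  set g : ℕ → G := fun k => if k < 5 then dl k else 1 with hgdef
  have hgD : ∀ k < 5, g k ∈ D := fun k hk => by simp only [g, if_pos hk]; exact (hdl k hk).1
  have hgsq : ∀ k, g k * g k = 1 := fun k => by
    simp only [g]; split_ifs with hk
    · exact hsqD _ (hdl k hk).1
    · exact one_mul 1
  have hpg : ∀ k, π (g k) = M.gs k := fun k => by
    simp only [g, Model.gs]; split_ifs with hk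
    · exact (hdl k hk).2
    · exact map_one π
  have hev : ∀ w, π (ev g w) = ev M.gs w := fun w => by
    rw [map_ev]; exact ev_congr fun x _ => hpg x
  have hpal : ∀ (p : List ℕ) (m : ℕ), m < 5 → ev g (p ++ [m] ++ p.reverse) ∈ D := fun p m hm => by
    rw [ev_append, ev_append, Model.ev_reverse hgsq, show ev g [m] = g m by simp [ev]]
    exact hconj _ _ (hgD m hm)
  have hsA : Sat 5 relsA g := sat_of_lifts M (MonoidHom.id K) Function.injective_id π g hgD hgsq
    (fun x hx => if_neg (by omega)) hev hpal h23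
  set H := Subgroup.closure (g '' Set.Iio 5) with hH
  have hgH : ∀ k < 5, g k ∈ H := fun k hk => Subgroup.subset_closure ⟨k, hk, rfl⟩
  have hevH : ∀ {w : List ℕ}, (∀ x ∈ w, x < 5) → ev g w ∈ H := fun hw => ev_mem fun x hx => hgH x (hw x hx)
  let l : ℕ → G := fun i => ev g (wordOf i)
  have hl : ∀ i < 165, l i ∈ D ∧ l i ∈ H ∧ π (l i) = M.a i := fun i hi =>
    ⟨hpal _ _ (Model.conj_data hi).2.1, hevH (Model.wordOf_lt hi), by rw [hev, M.ev_wordOf hi]⟩
  set φ : H →* K := π.comp H.subtype with hφ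
  have hφs : Function.Surjective φ := by
    rw [← MonoidHom.range_eq_top]
    exact M.closure_gs fun k hk => ⟨⟨g k, hgH k hk⟩, (hpg k).trans (M.gs_of_lt hk)⟩
  have hcard : Nat.card H = 13685760 * Nat.card φ.ker := by
    rw [Subgroup.card_eq_card_quotient_mul_card_subgroup φ.ker,
      Nat.card_congr (QuotientGroup.quotientKerEquivOfSurjective φ hφs).toEquiv, M.card]
  have hker2 : Nat.card φ.ker ≤ 2 := by
    have : Nat.card H ≤ 3960 * (128 * 54) := card_closure_le hsA card_relsA
    omega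
  have hkc : ∀ c ∈ H, c ∈ π.ker → ∀ x ∈ H, Commute c x := by
    intro c hc hck x hx
    by_cases hc1 : c = 1
    · rw [hc1]; exact Commute.one_left x
    let c' : φ.ker := ⟨⟨c, hc⟩, hck⟩
    have hc' : c' ≠ 1 := fun e => hc1 (congrArg (fun y : φ.ker => ((y : H) : G)) e)
    let y : φ.ker := ⟨⟨x, hx⟩ * c' * (⟨x, hx⟩ : H)⁻¹, (inferInstance : φ.ker.Normal).conj_mem _ c'.2 _⟩
    have hy : y = c' := by
      by_contra hy
      haveI := Fintype.ofFinite φ.ker
      have hy1 : y ≠ 1 := fun e => hc' (by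
        have e' : (y : H) = 1 := congrArg Subtype.val e
        exact Subtype.ext (conj_eq_one_iff.1 e'))
      have h3 : ({1, c', y} : Finset φ.ker).card = 3 :=
        Finset.card_eq_three.2 ⟨1, c', y, hc'.symm, hy1.symm, Ne.symm hy, rfl⟩
      have := Finset.card_le_univ ({1, c', y} : Finset φ.ker)
      rw [h3, ← Nat.card_eq_fintype_card] at this
      omega
    have e : x * c * x⁻¹ = c := congrArg (fun y : φ.ker => ((y : H) : G)) hy
    exact (mul_inv_eq_iff_eq_mul.1 e).symm
  -- everything is the product of the abelian subgroup and `H`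
  haveI := hO.eSub_normal
  have htop : eSub π D ⊔ H = ⊤ := by
    rw [eq_top_iff, ← hgen, Subgroup.closure_le]
    intro d hd
    obtain ⟨i, hi, e⟩ : π d ∈ M.transv := hT ▸ ⟨d, hd, rfl⟩
    obtain ⟨h1, h2, h3⟩ := hl i hi
    rw [show d = (d * l i) * l i by rw [mul_assoc, hsqD _ h1, mul_one]]
    refine mul_mem (Subgroup.mem_sup_left (Subgroup.subset_closure ?_)) (Subgroup.mem_sup_right h2)
    exact ⟨π d, ⟨d, hd, rfl⟩, d, hd, l i, h1, rfl, h3.trans e, rfl⟩
  -- the word of odd length
  have hodd : ev g oddWord = 1 := by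
    have h := oddOK_eq
    simp only [oddOK, letters, List.all_eq_true, List.mem_range, Bool.and_eq_true, decide_eq_true_eq,
      beq_iff_eq] at h
    obtain ⟨⟨⟨⟨hfix, hhead⟩, hsplit⟩, horth⟩, hp⟩ := h
    set c := ev g oddWord with hc
    have hlt : ∀ x ∈ oddWord, x < 5 := fun x hx => by
      rw [hsplit, List.mem_append] at hx
      exact hx.elim (fun h => (hhead x h).trans (by norm_num)) (Model.wordOf_lt hp x)
    have hcH : c ∈ H := hevH hlt
    have hck : c ∈ π.ker := by rw [MonoidHom.mem_ker, hev]; exact M.ev_eq_one hlt hfix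
    have hcW : ∀ z ∈ wSub π D (M.a perpPt), Commute c z := by
      intro z hz
      rw [hc, hsplit, ev_append]
      refine Commute.mul_left ?_ ?_
      · refine Subgroup.mem_centralizer_singleton_iff.1 (ev_mem (S := Subgroup.centralizer {z}) fun x hx => ?_)
        have hx5 : x < 5 := (hhead x hx).trans (by norm_num)
        refine Subgroup.mem_centralizer_singleton_iff.2 (hO.commute_wSub (hgD x hx5) ?_ hz).eq
        rw [hpg, M.gs_of_lt hx5]
        exact (M.commute_iff (genPt_lt hx5) hp).2 (horth x (hhead x hx))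
      · exact hO.commute_wSub (hl _ hp).1 ((hl _ hp).2.2 ▸ Commute.refl _) hz
    have hcE : ∀ z ∈ allProds π D, Commute c z := by
      rintro z ⟨u, hu, hz⟩
      obtain ⟨i, hi, rfl⟩ : u ∈ M.transv := hT ▸ hu
      set h := ev g (pathTo i) * (ev g (pathTo perpPt))⁻¹
      have hh : h ∈ H := mul_mem (hevH (Model.conj_data hi).2.2.2.1) (inv_mem (hevH (Model.conj_data hp).2.2.2.1))
      have hh' : π h⁻¹ * M.a i * (π h⁻¹)⁻¹ = M.a perpPt := by
        simp only [h, mul_inv_rev, inv_inv, map_mul, map_inv, hev]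
        rw [← M.transitive hi, ← M.transitive hp]; group
      have hz' := hO.conj_wSub h⁻¹ (Subgroup.subset_closure hz : z ∈ wSub π D (M.a i))
      rw [hh', inv_inv] at hz'
      have h1 := hcW _ hz'
      have h2 := hkc c hcH hck h hh
      have h3 := (h2.mul_right h1).mul_right h2.inv_right
      rwa [show h * (h⁻¹ * z * h) * h⁻¹ = z by group] at h3
    have hle : eSub π D ⊔ H ≤ Subgroup.centralizer {c} := by
      refine sup_le ((Subgroup.closure_le _).2 fun z hz => ?_) fun x hx => ?_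
      · exact Subgroup.mem_centralizer_singleton_iff.2 (hcE z hz).eq.symm
      · exact Subgroup.mem_centralizer_singleton_iff.2 (hkc c hcH hck x hx).eq.symm
    have : c ∈ Subgroup.center G := by
      rw [Subgroup.mem_center_iff]
      intro x
      rw [htop] at hle
      exact Subgroup.mem_centralizer_singleton_iff.1 (hle (Subgroup.mem_top x))
    rwa [hZ, Subgroup.mem_bot] at this
  have hsW : Sat 5 relsW g := ⟨hsA.sq, hsA.out, fun r hr => by
    rcases List.mem_append.1 hr with h | h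
    · exact hsA.rel r h
    · obtain rfl := List.mem_singleton.1 h
      exact (pow_one _).trans hodd⟩
  have hk1 : φ.ker = ⊥ := Subgroup.eq_bot_of_card_le _ (by
    have : Nat.card H ≤ 1980 * (128 * 54) := card_closure_le hsW card_relsW
    omega)
  have hinj : ∀ x ∈ H, x ∈ π.ker → x = 1 := fun x hx hxk => by
    have : (⟨x, hx⟩ : H) ∈ φ.ker := hxk
    rw [hk1, Subgroup.mem_bot] at this
    exact congrArg Subtype.val this
  have hkerE : π.ker = eSub π D := by
    refine le_antisymm (fun x hx => ?_) hO.eSub_le_ker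
    obtain ⟨e, he, y, hy, rfl⟩ := Subgroup.mem_sup_of_normal_left.1 (htop ▸ Subgroup.mem_top x :
      x ∈ eSub π D ⊔ H)
    have : y = 1 := hinj y hy (by
      have := mul_mem (inv_mem (hO.eSub_le_ker he)) hx
      rwa [inv_mul_cancel_left] at this)
    rw [this, mul_one]; exact he
  refine ⟨hkerE ▸ hO.elementary, H, Subgroup.isComplement'_of_card_mul_and_disjoint ?_ ?_⟩
  · rw [hcard, hk1, Subgroup.card_bot, mul_one,
      Subgroup.card_eq_card_quotient_mul_card_subgroup π.ker,
      Nat.card_congr (QuotientGroup.quotientKerEquivOfSurjective π hπ).toEquiv, M.card, mul_comm]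
  · rw [Subgroup.disjoint_def]
    exact fun {x} hx hx' => hinj x hx' hx

end CfsgLib.Spor.SUFiveRad
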