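/-
Central extensions by two-groups of a perfect group without multiplier at two.
-/
import Cfsg.Agent.Lib.Lie.Mult.Unit.Kit

set_option autoImplicit false

namespace CfsgLib.Spor.SUFiveRad

open CfsgLib.Lie.Mult.Unit
open scoped commutatorElement

/-- A central extension by a two-group meets its derived group trivially in the kernel. -/
theorem eq_one_of_mem_commutator {Γ : Type*} [Group Γ] [Finite Γ] {K : Type} [Group K] (τ : Γ →* K)
    (hτ : Function.Surjective τ) (hperf : commutator K = ⊤) (hnop : NoP 2 K) (hc : τ.ker ≤ Subgroup.center Γ)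
    (h2 : IsPGroup 2 τ.ker) {z : Γ} (hz : z ∈ τ.ker) (hz' : z ∈ commutator Γ) : z = 1 := by
  set Γ' := commutator Γ with hΓ'
  have hsurj : ∀ k : K, ∃ x ∈ Γ', τ x = k := fun k => by
    have hk : k ∈ Γ'.map τ := by
      rw [hΓ', commutator_def, Subgroup.map_commutator, Subgroup.map_top_of_surjective _ hτ, ← commutator_def, hperf]
      trivial
    exact Subgroup.mem_map.1 hk
  have hle : Γ' ≤ ⁅Γ', Γ'⁆ := by
    conv_lhs => rw [hΓ', commutator_def]
    rw [Subgroup.commutator_le]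
    intro a _ b _
    obtain ⟨a', ha', ea⟩ := hsurj (τ a)
    obtain ⟨b', hb', eb⟩ := hsurj (τ b)
    have za : a'⁻¹ * a ∈ Subgroup.center Γ := hc (by rw [MonoidHom.mem_ker, map_mul, map_inv, ea, inv_mul_cancel])
    have zb : b'⁻¹ * b ∈ Subgroup.center Γ := hc (by rw [MonoidHom.mem_ker, map_mul, map_inv, eb, inv_mul_cancel])
    have hza := Subgroup.mem_center_iff.1 za
    have hzb := Subgroup.mem_center_iff.1 zb
    have e : ⁅a, b⁆ = ⁅a', b'⁆ := by
      calc ⁅a, b⁆ = ⁅a' * (a'⁻¹ * a), b' * (b'⁻¹ * b)⁆ := by simp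
        _ = ⁅a', b'⁆ := by
          set x := a'⁻¹ * a
          set y := b'⁻¹ * b
          simp only [commutatorElement_def, mul_inv_rev]
          have c1 : Commute x b' := (hza b').symm
          have c3 : Commute x a'⁻¹ := (hza a'⁻¹).symm
          have c4 : Commute y a'⁻¹ := (hzb a'⁻¹).symm
          have c5 : Commute y x⁻¹ := (hzb x⁻¹).symm
          calc a' * x * (b' * y) * (x⁻¹ * a'⁻¹) * (y⁻¹ * b'⁻¹)
              = a' * (x * b') * (y * x⁻¹) * a'⁻¹ * y⁻¹ * b'⁻¹ := by group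
            _ = a' * (b' * x) * (x⁻¹ * y) * a'⁻¹ * y⁻¹ * b'⁻¹ := by rw [c1.eq, c5.eq]
            _ = a' * b' * (y * a'⁻¹) * y⁻¹ * b'⁻¹ := by group
            _ = a' * b' * (a'⁻¹ * y) * y⁻¹ * b'⁻¹ := by rw [c4.eq]
            _ = a' * b' * a'⁻¹ * b'⁻¹ := by group
    rw [e]
    exact Subgroup.commutator_mem_commutator ha' hb'
  have htop : commutator ↥Γ' = ⊤ := by
    refine Subgroup.map_injective Γ'.subtype_injective ?_
    rw [Subgroup.map_subtype_commutator, ← MonoidHom.range_eq_map, Subgroup.range_subtype]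
    exact le_antisymm (Subgroup.commutator_le_self Γ') hle
  let e : Shrink.{0} ↥Γ' ≃* ↥Γ' := Shrink.mulEquiv
  haveI : Finite (Shrink.{0} ↥Γ') := Finite.of_equiv _ e.toEquiv.symm
  let σ : Shrink.{0} ↥Γ' →* K := (τ.comp Γ'.subtype).comp e.toMonoidHom
  have hσ : Cfsg.IsStemExtension σ := by
    refine ⟨fun k => ?_, fun x hx => ?_, ?_⟩
    · obtain ⟨x, hx, rfl⟩ := hsurj k
      exact ⟨e.symm ⟨x, hx⟩, by simp [σ]⟩
    · rw [Subgroup.mem_center_iff]
      intro y
      apply e.injective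
      rw [map_mul, map_mul]
      exact Subtype.ext (Subgroup.mem_center_iff.1 (hc (hx : (e x : Γ) ∈ τ.ker)) (e y : Γ))
    · intro x _
      have : commutator (Shrink.{0} ↥Γ') = ⊤ := by
        rw [← Subgroup.map_top_of_surjective e.symm.toMonoidHom e.symm.surjective, ← htop, commutator_def,
          commutator_def, Subgroup.map_commutator, Subgroup.map_top_of_surjective _ e.symm.surjective]
      rw [this]; trivial
  by_contra hne
  apply hnop (Shrink.{0} ↥Γ') σ hσ
  have hp : IsPGroup 2 σ.ker := by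
    intro ⟨x, hx⟩
    obtain ⟨k, hk⟩ := h2 ⟨(e x : Γ), hx⟩
    refine ⟨k, Subtype.ext (e.injective (Subtype.ext ?_))⟩
    have := congrArg Subtype.val hk
    simpa using this
  obtain ⟨n, hn⟩ := hp.exists_card_eq
  rw [hn]
  refine dvd_pow_self 2 fun hn0 => hne ?_
  have hb : σ.ker = ⊥ := Subgroup.card_eq_one.1 (by rw [hn, hn0, pow_zero])
  have hm : e.symm ⟨z, hz'⟩ ∈ σ.ker := by
    rw [MonoidHom.mem_ker]; simpa [σ] using hz
  rw [hb, Subgroup.mem_bot] at hm
  simpa using congrArg Subtype.val (congrArg e hm)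

end CfsgLib.Spor.SUFiveRad
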