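/-
Unitary transvections in dimension seven over four elements: involutions, classes of 3-transpositions, and generation
by the transvections orthogonal to one of two neighbours.
-/
import Cfsg.Agent.Lib.Spor.SUFiveRad.Model

set_option autoImplicit false

namespace CfsgLib.Spor.SUFiveRad

open Matrix CfsgLib.SU
open Cfsg.Agent.S1631 (Is is_smul is_unique is_conj is_sq two_zero norm_one)

variable {F : Type} [Field F] [Fintype F] {n : ℕ} (C : UCtx F 2)

/-- The transvections. -/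
def tvSet (n : ℕ) : Set ↥(Cfsg.SU n F 2) := {g | ∃ p, p ≠ 0 ∧ C.form p p = 0 ∧ Is C p g}

theorem exists_is (hF : Fintype.card F = 4) {p : Fin n → F} (hp : C.form p p = 0) :
    ∃ t : ↥(Cfsg.SU n F 2), Is C p t := by
  have h2 := two_zero hF
  exact ⟨C.tv p hp 1 (by rw [map_one]; linear_combination h2),
    fun v => (C.tv_mulVec p hp _ _ v).trans (by rw [one_mul])⟩

theorem is_commute {p r : Fin n → F} {g k : ↥(Cfsg.SU n F 2)} (hg : Is C p g) (hk : Is C r k)
    (h : C.form r p = 0) : Commute g k := by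
  have h1 := is_conj C hk g
  rw [hg, h, zero_smul, add_zero] at h1
  exact mul_inv_eq_iff_eq_mul.1 (is_unique C h1 hk)

/-- A combination of two hyperbolic pairs. -/
def cmb (q₁ q₂ f₁ f₂ : Fin n → F) (α β γ δ : F) : Fin n → F := α • q₁ + β • q₂ + γ • f₁ + δ • f₂

/-- A product of two orthogonal transvections, and possibly a further one, is not a 3-transposition. -/
theorem witness (hF : Fintype.card F = 4) {q₁ q₂ a₁ a₂ r : Fin n → F} {t₁ t₂ s : ↥(Cfsg.SU n F 2)}
    (h11 : C.form q₁ q₁ = 0) (h22 : C.form q₂ q₂ = 0) (h12 : C.form q₁ q₂ = 0)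
    (ht₁ : Is C q₁ t₁) (ht₂ : Is C q₂ t₂) (hs : s * s = 1)
    (hcs : ∀ (v : Fin n → F) (t), Is C v t → C.form v r = 0 → Commute t s)
    (hq₁r : C.form q₁ r = 0) (hq₂r : C.form q₂ r = 0) (ha₁r : C.form a₁ r = 0) (ha₂r : C.form a₂ r = 0)
    (ha₁q₁ : C.form a₁ q₁ = 1) (ha₁q₂ : C.form a₁ q₂ = 0) (ha₂q₁ : C.form a₂ q₁ = 0) (ha₂q₂ : C.form a₂ q₂ = 1) :
    ∃ h, (t₁ * t₂ * s * (h * (t₁ * t₂ * s) * h⁻¹)) ^ 2 ≠ 1 ∧
      (t₁ * t₂ * s * (h * (t₁ * t₂ * s) * h⁻¹)) ^ 3 ≠ 1 := by
  have h2 : (2 : F) = 0 := two_zero hF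
  have h21 := C.form_swap_zero h12
  obtain ⟨c₁, hc₁⟩ := C.exists_trace (C.form_self_fixed a₁)
  set f₁ := a₁ + c₁ • q₁ with hf₁
  have hq₁a₁ : C.form q₁ a₁ = 1 := by rw [← C.bar_form, ha₁q₁, map_one]
  have hf₁f₁ : C.form f₁ f₁ = 0 := by
    simp only [hf₁, C.form_add_left, C.form_add_right, C.form_smul_left, C.form_smul_right, ha₁q₁, hq₁a₁, h11,
      mul_one, mul_zero, add_zero]
    linear_combination hc₁ + C.form a₁ a₁ * h2
  set b₂ := a₂ + C.form a₂ f₁ • q₁ with hb₂
  have hb₂f₁ : C.form b₂ f₁ = 0 := by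
    have : C.form q₁ f₁ = 1 := by simp [hf₁, C.form_add_right, C.form_smul_right, h11, hq₁a₁]
    simp only [hb₂, C.form_add_left, C.form_smul_left, this, mul_one]
    linear_combination C.form a₂ f₁ * h2
  obtain ⟨c₂, hc₂⟩ := C.exists_trace (C.form_self_fixed b₂)
  set f₂ := b₂ + c₂ • q₂ with hf₂
  have hb₂q₁ : C.form b₂ q₁ = 0 := by simp [hb₂, C.form_add_left, C.form_smul_left, ha₂q₁, h11]
  have hb₂q₂ : C.form b₂ q₂ = 1 := by simp [hb₂, C.form_add_left, C.form_smul_left, ha₂q₂, h12]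
  have hq₂b₂ : C.form q₂ b₂ = 1 := by rw [← C.bar_form, hb₂q₂, map_one]
  have hf₂f₂ : C.form f₂ f₂ = 0 := by
    simp only [hf₂, C.form_add_left, C.form_add_right, C.form_smul_left, C.form_smul_right, hb₂q₂, hq₂b₂, h22,
      mul_one, mul_zero, add_zero]
    linear_combination hc₂ + C.form b₂ b₂ * h2
  have f11 : C.form f₁ q₁ = 1 := by simp [hf₁, C.form_add_left, C.form_smul_left, ha₁q₁, h11]
  have f12 : C.form f₁ q₂ = 0 := by simp [hf₁, C.form_add_left, C.form_smul_left, ha₁q₂, h12]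
  have f21 : C.form f₂ q₁ = 0 := by simp [hf₂, C.form_add_left, C.form_smul_left, hb₂q₁, h21]
  have f22 : C.form f₂ q₂ = 1 := by simp [hf₂, C.form_add_left, C.form_smul_left, hb₂q₂, h22]
  have g11 : C.form q₁ f₁ = 1 := by rw [← C.bar_form, f11, map_one]
  have g12 : C.form q₂ f₁ = 0 := C.form_swap_zero f12
  have g21 : C.form q₁ f₂ = 0 := C.form_swap_zero f21
  have g22 : C.form q₂ f₂ = 1 := by rw [← C.bar_form, f22, map_one]
  have hf12' : C.form f₂ f₁ = 0 := by simp [hf₂, C.form_add_left, C.form_smul_left, hb₂f₁, g12]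
  have hf12 : C.form f₁ f₂ = 0 := C.form_swap_zero hf12'
  let cb := cmb q₁ q₂ f₁ f₂
  have hr : ∀ α β γ δ : F, C.form (cb α β γ δ) r = 0 := fun α β γ δ => by
    simp [cb, cmb, hf₁, hf₂, hb₂, C.form_add_left, C.form_smul_left, hq₁r, hq₂r, ha₁r, ha₂r]
  have hform : ∀ α β γ δ α' β' γ' δ' : F, C.form (cb α β γ δ) (cb α' β' γ' δ') =
      γ * C.bar α' + δ * C.bar β' + α * C.bar γ' + β * C.bar δ' := fun α β γ δ α' β' γ' δ' => by
    simp only [cb, cmb, C.form_add_left, C.form_add_right, C.form_smul_left, C.form_smul_right, h11, h12, h21, h22,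
      f11, f12, f21, f22, g11, g12, g21, g22, hf₁f₁, hf₂f₂, hf12, hf12']
    ring
  have step : ∀ {t : ↥(Cfsg.SU n F 2)} {a b c d : F}, Is C (cb a b c d) t → ∀ α β γ δ : F,
      t.1.1 *ᵥ cb α β γ δ = cb (α + (γ * C.bar a + δ * C.bar b + α * C.bar c + β * C.bar d) * a)
        (β + (γ * C.bar a + δ * C.bar b + α * C.bar c + β * C.bar d) * b)
        (γ + (γ * C.bar a + δ * C.bar b + α * C.bar c + β * C.bar d) * c)
        (δ + (γ * C.bar a + δ * C.bar b + α * C.bar c + β * C.bar d) * d) := by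
    intro t a b c d ht α β γ δ
    rw [ht, hform]
    simp only [cb, cmb, add_smul, mul_smul, smul_add]
    abel
  have e1 : cb 1 0 0 0 = q₁ := by simp [cb, cmb]
  have e2 : cb 0 1 0 0 = q₂ := by simp [cb, cmb]
  obtain ⟨u, hu⟩ := exists_is C hF (p := cb 0 0 0 1) (by rw [hform]; simp)
  obtain ⟨w, hw⟩ := exists_is C hF (p := cb 0 0 1 1) (by rw [hform]; simp)
  refine ⟨u * w, ?_⟩
  have one_add : (1 : F) + 1 = 0 := by linear_combination h2
  have hq₁' : (u * w).1.1 *ᵥ q₁ = cb 1 0 1 1 := by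
    rw [suMat_mulVec_mul, ← e1, step hw, step hu]; simp [one_add]
  have hq₂' : (u * w).1.1 *ᵥ q₂ = cb 0 1 1 0 := by
    rw [suMat_mulVec_mul, ← e2, step hw, step hu]; simp [one_add]
  set ta := u * w * t₁ * (u * w)⁻¹
  set tb := u * w * t₂ * (u * w)⁻¹
  have hta : Is C (cb 1 0 1 1) ta := hq₁' ▸ is_conj C ht₁ (u * w)
  have htb : Is C (cb 0 1 1 0) tb := hq₂' ▸ is_conj C ht₂ (u * w)
  have hcu : Commute (u * w) s := (hcs _ _ hu (hr _ _ _ _)).mul_left (hcs _ _ hw (hr _ _ _ _))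
  have hct : Commute (ta * tb) s := (hcs _ _ hta (hr _ _ _ _)).mul_left (hcs _ _ htb (hr _ _ _ _))
  have hprod : t₁ * t₂ * s * (u * w * (t₁ * t₂ * s) * (u * w)⁻¹) = t₁ * t₂ * (ta * tb) := by
    have e : u * w * (t₁ * t₂ * s) * (u * w)⁻¹ = ta * tb * s := by
      rw [show u * w * (t₁ * t₂ * s) * (u * w)⁻¹ = ta * tb * (u * w * s * (u * w)⁻¹) by simp only [ta, tb]; group,
        hcu.eq, mul_inv_cancel_right]
    rw [e, ← mul_assoc, mul_assoc (t₁ * t₂), ← hct.eq, mul_assoc (t₁ * t₂), mul_assoc (ta * tb), hs, mul_one]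
  rw [hprod]
  set p := t₁ * t₂ * (ta * tb)
  have ht₁' : Is C (cb 1 0 0 0) t₁ := by rw [e1]; exact ht₁
  have ht₂' : Is C (cb 0 1 0 0) t₂ := by rw [e2]; exact ht₂
  have p1 : p.1.1 *ᵥ cb 1 0 0 0 = cb 0 0 0 1 := by
    simp only [p, suMat_mulVec_mul]
    rw [step htb, step hta, step ht₂', step ht₁']; simp [one_add]
  have p2 : p.1.1 *ᵥ cb 0 0 0 1 = cb 1 0 1 1 := by
    simp only [p, suMat_mulVec_mul]
    rw [step htb, step hta, step ht₂', step ht₁']; simp [one_add]
  have p3 : p.1.1 *ᵥ cb 1 0 1 1 = cb 0 1 1 1 := by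
    simp only [p, suMat_mulVec_mul]
    rw [step htb, step hta, step ht₂', step ht₁']; simp [one_add]
  constructor
  · intro h
    have h' := congrArg (fun g : ↥(Cfsg.SU n F 2) => C.form (g.1.1 *ᵥ cb 1 0 0 0) (cb 1 0 0 0)) h
    simp only [pow_two, suMat_mulVec_mul, su_one_mulVec, p1, p2, hform] at h'
    simp at h'
  · intro h
    have h' := congrArg (fun g : ↥(Cfsg.SU n F 2) => C.form (g.1.1 *ᵥ cb 1 0 0 0) (cb 1 0 0 0)) h
    simp only [pow_succ, pow_zero, one_mul, suMat_mulVec_mul, su_one_mulVec, p1, p2, p3, hform] at h'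
    simp at h'

/-- The forms with independent vectors take all values. -/
theorem exists_forms {ι : Type*} [Fintype ι] {v : ι → Fin n → F} (hv : LinearIndependent F v) (y : ι → F) :
    ∃ x, ∀ i, C.form x (v i) = y i := by
  classical
  let L : (Fin n → F) →ₗ[F] (ι → F) :=
    { toFun := fun x i => C.form x (v i)
      map_add' := fun a b => funext fun i => C.form_add_left _ _ _
      map_smul' := fun c a => funext fun i => C.form_smul_left _ _ _ }
  by_contra hy
  have hlt : LinearMap.range L < ⊤ := lt_top_iff_ne_top.2 fun e => hy (by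
    obtain ⟨x, hx⟩ := (e ▸ Submodule.mem_top : y ∈ LinearMap.range L)
    exact ⟨x, fun i => congrFun hx i⟩)
  obtain ⟨φ, hφ, hle⟩ := Submodule.exists_le_ker_of_lt_top _ hlt
  apply hφ
  set c : ι → F := fun i => φ (Pi.single i 1)
  have hzero : ∀ x, C.form x (∑ i, C.bar (c i) • v i) = 0 := fun x => by
    have h1 : φ (L x) = 0 := hle ⟨x, rfl⟩
    have h3 : φ (L x) = ∑ i, L x i • c i := by
      conv_lhs => rw [pi_eq_sum_univ' (L x)]
      simp [map_sum, c]
    have h4 : C.form x (∑ i, C.bar (c i) • v i) = ∑ i, L x i • c i := by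
      rw [← C.bar_form, C.form_sum_left, map_sum]
      refine Finset.sum_congr rfl fun i _ => ?_
      rw [C.form_smul_left, map_mul, C.bar_bar, C.bar_form, smul_eq_mul, mul_comm]
      rfl
    rw [h4, ← h3, h1]
  have hc := Fintype.linearIndependent_iff.1 hv (fun i => C.bar (c i)) (C.eq_zero_of_form' hzero)
  refine LinearMap.pi_ext' fun i => LinearMap.ext_ring ?_
  simpa [c] using hc i

/-- A subspace on which the form vanishes has at most half the dimension. -/
theorem exists_anisotropic (hF : Fintype.card F = 4) {W : Submodule F (Fin n → F)}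
    (hW : n < 2 * Module.finrank F W) : ∃ z ∈ W, C.form z z = 1 := by
  classical
  have h2 : (2 : F) = 0 := two_zero hF
  by_contra! h
  have h0 : ∀ z ∈ W, C.form z z = 0 := by
    intro z hz
    by_contra hne
    have hfix := C.form_self_fixed z
    rw [C.bar_eq, pow_two] at hfix
    exact h z hz (mul_right_cancel₀ hne (by rw [one_mul]; exact hfix))
  have hpol : ∀ v ∈ W, ∀ w ∈ W, C.form v w = 0 := by
    intro v hv w hw
    have key : ∀ c : F, c * C.form w v + C.bar c * C.form v w = 0 := fun c => by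
      have := h0 (v + c • w) (add_mem hv (W.smul_mem c hw))
      rw [C.form_add_left, C.form_add_right, C.form_add_right, C.form_smul_left, C.form_smul_left,
        C.form_smul_right, C.form_smul_right, h0 v hv, h0 w hw, mul_zero, mul_zero, add_zero, zero_add] at this
      linear_combination this
    obtain ⟨y, -, hy⟩ := C.exists_trace_ne_zero
    have h1 := key 1
    rw [map_one, one_mul, one_mul] at h1
    have h3 := key y
    have : (y + C.bar y) * C.form v w = 0 := by linear_combination h3 - y * h1 + y * C.form v w * h2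
    exact (mul_eq_zero.1 this).resolve_left hy
  let b := Module.finBasis F W
  let L : (Fin n → F) →ₗ[F] (Fin (Module.finrank F W) → F) :=
    { toFun := fun x i => C.form x (b i)
      map_add' := fun a b => funext fun i => C.form_add_left _ _ _
      map_smul' := fun c a => funext fun i => C.form_smul_left _ _ _ }
  have hL : LinearMap.range L = ⊤ := eq_top_iff.2 fun y _ => by
    obtain ⟨x, hx⟩ := exists_forms C (b.linearIndependent.map' W.subtype W.ker_subtype) y
    exact ⟨x, funext hx⟩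
  have hle : W ≤ LinearMap.ker L := fun w hw => LinearMap.mem_ker.2 (funext fun i => hpol w hw _ (b i).2)
  have h1 := LinearMap.finrank_range_add_finrank_ker L
  rw [hL, finrank_top, Module.finrank_fin_fun, Module.finrank_fin_fun] at h1
  have := Submodule.finrank_mono hle
  omega

/-- The transvections orthogonal to one of two neighbours generate all transvections. -/
theorem tv_mem_closure (hF : Fintype.card F = 4) (hn : 7 ≤ n) {p r : Fin n → F} {u v : ↥(Cfsg.SU n F 2)}
    (hp0 : p ≠ 0) (hp : C.form p p = 0) (hr0 : r ≠ 0) (hr : C.form r r = 0) (hu : Is C p u) (hv : Is C r v)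
    (hpr : C.form p r ≠ 0) {s : Fin n → F} {w : ↥(Cfsg.SU n F 2)} (hs0 : s ≠ 0) (hs : C.form s s = 0)
    (hw : Is C s w) :
    w ∈ Subgroup.closure {x | x ∈ tvSet C n ∧ (Commute x u ∨ Commute x v)} := by
  classical
  have h2 : (2 : F) = 0 := two_zero hF
  set S := Subgroup.closure {x | x ∈ tvSet C n ∧ (Commute x u ∨ Commute x v)}
  have mem : ∀ (a : Fin n → F) (t), a ≠ 0 → C.form a a = 0 → Is C a t → C.form a p = 0 ∨ C.form a r = 0 → t ∈ S :=
    fun a t ha0 ha ht hor => Subgroup.subset_closure ⟨⟨a, ha0, ha, ht⟩, hor.imp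
      (fun e => (is_commute C hu ht e).symm) (fun e => (is_commute C hv ht e).symm)⟩
  by_cases h1 : C.form s p = 0
  · exact mem s w hs0 hs hw (Or.inl h1)
  by_cases h1' : C.form s r = 0
  · exact mem s w hs0 hs hw (Or.inr h1')
  have hrp : C.form r p ≠ 0 := fun e => hpr (C.form_swap_zero e)
  have huS : u ∈ S := mem p u hp0 hp hu (Or.inl hp)
  have hvS : v ∈ S := mem r v hr0 hr hv (Or.inr hr)
  by_cases hspan : ∃ α β : F, s = α • p + β • r
  · obtain ⟨α, β, rfl⟩ := hspan
    set x := α * C.bar β * C.form p r with hx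
    have hα : α ≠ 0 := fun e => h1' (by simp [e, C.form_smul_left, hr])
    have hβ : β ≠ 0 := fun e => h1 (by simp [e, C.form_smul_left, hp])
    have hx0 : x ≠ 0 := mul_ne_zero (mul_ne_zero hα ((map_ne_zero C.bar).2 hβ)) hpr
    have hxb : C.bar x = x := by
      simp only [C.form_add_left, C.form_add_right, C.form_smul_left, C.form_smul_right, hp, hr, mul_zero, add_zero,
        zero_add] at hs
      simp only [hx, map_mul, C.bar_bar, C.bar_form]
      linear_combination hs - α * C.bar β * C.form p r * h2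
    rw [C.bar_eq, pow_two] at hxb
    have hx1 : x = 1 := mul_right_cancel₀ hx0 (by rw [one_mul]; exact hxb)
    have hα' : α = β * C.form r p := by
      have e1 := norm_one C hF hβ
      have e2 := norm_one C hF hpr
      rw [C.bar_form] at e2
      linear_combination (β * C.form r p) * hx1 - α * e1 - α * (β * C.bar β) * e2
    have h3 := is_conj C hv u
    rw [hu] at h3
    have e : α • p + β • r = β • (r + C.form r p • p) := by rw [hα', smul_add, smul_smul, add_comm]
    rw [e] at hw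
    rw [is_unique C hw (is_smul C hF h3 hβ)]
    exact mul_mem (mul_mem huS hvS) (inv_mem huS)
  have hind : LinearIndependent F ![p, r, s] := by
    rw [Fintype.linearIndependent_iff]
    intro g hg
    simp only [Fin.sum_univ_three, Matrix.cons_val_zero, Matrix.cons_val_one, Matrix.cons_val_two, Matrix.tail_cons,
      Matrix.head_cons] at hg
    have h20 : g 2 = 0 := by
      by_contra hne
      refine hspan ⟨-(g 2)⁻¹ * g 0, -(g 2)⁻¹ * g 1, funext fun i => ?_⟩
      have := congrFun hg i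
      simp only [Pi.add_apply, Pi.smul_apply, smul_eq_mul, Pi.zero_apply] at this
      simp only [Pi.add_apply, Pi.smul_apply, smul_eq_mul]
      field_simp
      linear_combination this
    rw [h20, zero_smul, add_zero] at hg
    have h10 : g 1 = 0 := by
      have := congrArg (fun x => C.form x p) hg
      simp only [C.form_add_left, C.form_smul_left, hp, mul_zero, zero_add, C.form_zero_left] at this
      exact (mul_eq_zero.1 this).resolve_right hrp
    rw [h10, zero_smul, add_zero, smul_eq_zero] at hg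
    intro i
    fin_cases i
    exacts [hg.resolve_right hp0, h10, h20]
  obtain ⟨a₀, ha₀⟩ := exists_forms C hind ![0, C.form s r, 1]
  let L : (Fin n → F) →ₗ[F] (Fin 3 → F) :=
    { toFun := fun x => ![C.form x p, C.form x r, C.form x s]
      map_add' := fun x y => by ext i; fin_cases i <;> simp [C.form_add_left]
      map_smul' := fun c x => by ext i; fin_cases i <;> simp [C.form_smul_left] }
  have hdim : n < 2 * Module.finrank F (LinearMap.ker L) := by
    have h3 := LinearMap.finrank_range_add_finrank_ker L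
    have := Submodule.finrank_le (LinearMap.range L)
    rw [Module.finrank_fin_fun] at h3 this
    omega
  obtain ⟨z, hz, hzz⟩ := exists_anisotropic C hF hdim
  have hz' := LinearMap.mem_ker.1 hz
  have hzp : C.form z p = 0 := congrFun hz' 0
  have hzr : C.form z r = 0 := congrFun hz' 1
  have hzs : C.form z s = 0 := congrFun hz' 2
  set a₁ := a₀ + C.form a₀ z • z with ha₁
  have ha₁z : C.form a₁ z = 0 := by
    simp only [ha₁, C.form_add_left, C.form_smul_left, hzz, mul_one]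
    linear_combination C.form a₀ z * h2
  have ha₁v : C.form a₁ p = 0 ∧ C.form a₁ r = C.form s r ∧ C.form a₁ s = 1 := by
    simp only [ha₁, C.form_add_left, C.form_smul_left, hzp, hzr, hzs, mul_zero, add_zero]
    exact ⟨ha₀ 0, ha₀ 1, ha₀ 2⟩
  obtain ⟨a, hap, har, has, haa⟩ : ∃ a, C.form a p = 0 ∧ C.form a r = C.form s r ∧ C.form a s = 1 ∧
      C.form a a = 0 := by
    by_cases ha : C.form a₁ a₁ = 0
    · exact ⟨a₁, ha₁v.1, ha₁v.2.1, ha₁v.2.2, ha⟩
    have hfix := C.form_self_fixed a₁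
    rw [C.bar_eq, pow_two] at hfix
    have he : C.form a₁ a₁ = 1 := mul_right_cancel₀ ha (by rw [one_mul]; exact hfix)
    refine ⟨a₁ + z, ?_, ?_, ?_, ?_⟩ <;>
      simp only [C.form_add_left, C.form_add_right, hzp, hzr, hzs, hzz, ha₁v, add_zero, ha₁z,
        C.form_swap_zero ha₁z, he]
    linear_combination h2
  have hsa : C.form s a = 1 := by rw [← C.bar_form, has, map_one]
  have ha0 : a ≠ 0 := fun e => by rw [e, C.form_zero_left] at has; exact zero_ne_one has
  obtain ⟨ta, hta⟩ := exists_is C hF haa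
  have htaS : ta ∈ S := mem a ta ha0 haa hta (Or.inl hap)
  have hb := is_conj C hw ta
  rw [hta, hsa, one_smul] at hb
  have hb0 : s + a ≠ 0 := fun e => h1 (by
    have := congrArg (fun x => C.form x p) e
    simpa [C.form_add_left, C.form_zero_left, hap] using this)
  have hbS : ta * w * ta⁻¹ ∈ S := mem (s + a) _ hb0 (by
    simp only [C.form_add_left, C.form_add_right, hs, has, hsa, haa, add_zero, zero_add]
    linear_combination h2) hb (Or.inr (by rw [C.form_add_left, har]; linear_combination C.form s r * h2))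
  have := mul_mem (mul_mem (inv_mem htaS) hbS) htaS
  simpa [mul_assoc] using this

/-- In dimension seven an involution is a transvection, or it is not a 3-transposition. -/
theorem invol_seven (hF : Fintype.card F = 4) {g : ↥(Cfsg.SU 7 F 2)} (hg : g * g = 1) (hg1 : g ≠ 1) :
    g ∈ tvSet C 7 ∨ ∃ h, (g * (h * g * h⁻¹)) ^ 2 ≠ 1 ∧ (g * (h * g * h⁻¹)) ^ 3 ≠ 1 := by
  have h2 : (2 : F) = 0 := two_zero hF
  have h0 := half_le_fixed hF hg
  obtain ⟨q₁, t₁, v₁, hq₁, hqq₁, ht₁, hc₁, hlt₁, -, hq₁f, hv₁f, hvq₁⟩ := invol_step C hF hg hg1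
  have ht₁2 := is_sq C hF hqq₁ ht₁
  by_cases h1 : t₁ * g = 1
  · left
    exact ⟨q₁, hq₁, hqq₁, by rwa [show g = t₁ from (mul_left_cancel (ht₁2.trans h1.symm)).symm]⟩
  right
  have hsq₁ : (t₁ * g) * (t₁ * g) = 1 := by rw [hc₁.symm.mul_mul_mul_comm, ht₁2, hg, one_mul]
  obtain ⟨q₂, t₂, v₂, hq₂, hqq₂, ht₂, hc₂, hlt₂, hperp₂, hq₂f, hv₂f, hvq₂⟩ := invol_step C hF hsq₁ h1
  have ht₂2 := is_sq C hF hqq₂ ht₂
  have hq₁f' : q₁ ∈ fixed (t₁ * g) := hlt₁.le hq₁f
  have h12 : C.form q₁ q₂ = 0 := hperp₂ _ hq₁f'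
  have hv12 : C.form v₁ q₂ = 0 := hperp₂ _ hv₁f
  set a₂ := v₂ + C.form v₂ q₁ • v₁ with ha₂
  have ha₂q₁ : C.form a₂ q₁ = 0 := by
    simp only [ha₂, C.form_add_left, C.form_smul_left, hvq₁, mul_one]
    linear_combination C.form v₂ q₁ * h2
  have ha₂q₂ : C.form a₂ q₂ = 1 := by
    simp only [ha₂, C.form_add_left, C.form_smul_left, hv12, hvq₂, mul_zero, add_zero]
  by_cases h3 : t₂ * (t₁ * g) = 1
  · have e : t₁ * g = t₂ := mul_left_cancel (h3.trans ht₂2.symm)
    have hg' : g = t₁ * t₂ * 1 := by rw [mul_one, ← e, ← mul_assoc, ht₁2, one_mul]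
    rw [hg']
    exact witness C hF (r := (0 : Fin 7 → F)) hqq₁ hqq₂ h12 ht₁ ht₂ (mul_one 1) (fun _ _ _ _ => Commute.one_right _)
      (C.form_zero_right _) (C.form_zero_right _) (C.form_zero_right _) (C.form_zero_right _) hvq₁ hv12 ha₂q₁ ha₂q₂
  have hsq₂ : (t₂ * (t₁ * g)) * (t₂ * (t₁ * g)) = 1 := by rw [hc₂.symm.mul_mul_mul_comm, ht₂2, hsq₁, one_mul]
  obtain ⟨q₃, t₃, -, hq₃, hqq₃, ht₃, hc₃, hlt₃, hperp₃, -, -, -⟩ := invol_step C hF hsq₂ h3
  have hone : t₃ * (t₂ * (t₁ * g)) = 1 := eq_one_of_fixed (by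
    have := Submodule.finrank_lt_finrank_of_lt hlt₁
    have := Submodule.finrank_lt_finrank_of_lt hlt₂
    have := Submodule.finrank_lt_finrank_of_lt hlt₃
    omega)
  have ht₃2 := is_sq C hF hqq₃ ht₃
  have e : t₂ * (t₁ * g) = t₃ := mul_left_cancel (hone.trans ht₃2.symm)
  have hg' : g = t₁ * t₂ * t₃ := by
    rw [← e, mul_assoc, ← mul_assoc t₂, ht₂2, one_mul, ← mul_assoc, ht₁2, one_mul]
  have hq13 : C.form q₁ q₃ = 0 := hperp₃ _ (hlt₂.le hq₁f')
  have hq23 : C.form q₂ q₃ = 0 := hperp₃ _ (hlt₂.le hq₂f)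
  have hv13 : C.form v₁ q₃ = 0 := hperp₃ _ (hlt₂.le hv₁f)
  have hv23 : C.form v₂ q₃ = 0 := hperp₃ _ hv₂f
  rw [hg']
  exact witness C hF (r := q₃) hqq₁ hqq₂ h12 ht₁ ht₂ ht₃2 (fun v t ht hv => (is_commute C ht₃ ht hv).symm)
    hq13 hq23 hv13 (by simp [ha₂, C.form_add_left, C.form_smul_left, hv13, hv23]) hvq₁ hv12 ha₂q₁ ha₂q₂

theorem rank_of_mem {g : ↥(Cfsg.SU n F 2)} (hg : g ∈ tvSet C n) : (g.1.1 - 1).rank = 1 := by
  obtain ⟨p, hp, -, hg⟩ := hg
  have e : g.1.1 - 1 = Matrix.vecMulVec p (fun j => C.bar (p j)) := by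
    refine Matrix.ext_of_mulVec_single fun j => ?_
    rw [Matrix.sub_mulVec, hg, Matrix.one_mulVec, add_sub_cancel_left, Matrix.vecMulVec_mulVec, op_smul_eq_smul]
    congr 1
    simp [UCtx.form, dotProduct, mul_comm]
  refine le_antisymm (e ▸ Matrix.rank_vecMulVec_le _ _) (Nat.one_le_iff_ne_zero.2 fun h0 => hp ?_)
  rw [Matrix.rank, Submodule.finrank_eq_zero, LinearMap.range_eq_bot] at h0
  obtain ⟨y, hy⟩ := C.exists_form_eq_one hp
  have h1 := LinearMap.congr_fun h0 y
  rwa [Matrix.mulVecLin_apply, Matrix.sub_mulVec, hg, Matrix.one_mulVec, add_sub_cancel_left, hy, one_smul] at h1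

theorem tv_transitive (hF : Fintype.card F = 4) (hn : 4 ≤ n) {g k : ↥(Cfsg.SU n F 2)} (hg : g ∈ tvSet C n)
    (hk : k ∈ tvSet C n) : IsConj g k := by
  classical
  obtain ⟨-, ⟨d, -, hD⟩, -⟩ := Cfsg.Agent.S1631.result F hF n hn
  have h1 : g ∈ conjugatesOf d := hD ▸ (rank_of_mem C hg : g ∈ {g : ↥(Cfsg.SU n F 2) |
      (((g : Matrix.SpecialLinearGroup (Fin n) F) : Matrix (Fin n) (Fin n) F) - 1).rank = 1})
  have h3 : k ∈ conjugatesOf d := hD ▸ (rank_of_mem C hk : k ∈ {g : ↥(Cfsg.SU n F 2) |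
      (((g : Matrix.SpecialLinearGroup (Fin n) F) : Matrix (Fin n) (Fin n) F) - 1).rank = 1})
  exact (IsConj.symm h1).trans h3

theorem tvSet_nonempty (hF : Fintype.card F = 4) (hn : 2 ≤ n) : (tvSet C n).Nonempty := by
  obtain ⟨v, hv, hvv⟩ : ∃ v : Fin n → F, v ≠ 0 ∧ C.form v v = 0 := by
    have h2 : (2 : F) = 0 := two_zero hF
    obtain ⟨i, j, hij⟩ : ∃ i j : Fin n, i ≠ j := ⟨⟨0, by omega⟩, ⟨1, by omega⟩, by simp [Fin.ext_iff]⟩
    classical
    refine ⟨Pi.single i 1 + Pi.single j 1, fun e => ?_, ?_⟩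
    · have := congrFun e i
      simp [hij] at this
    · simp only [UCtx.form, Pi.add_apply]
      rw [Finset.sum_eq_add_of_mem i j (Finset.mem_univ _) (Finset.mem_univ _) hij fun x _ hx => by
        simp [hx.1, hx.2]]
      simp [hij, Ne.symm hij]
      linear_combination h2
  obtain ⟨t, ht⟩ := exists_is C hF hvv
  exact ⟨t, v, hv, hvv, ht⟩

theorem closure_tvSet (hF : Fintype.card F = 4) (hn : 7 ≤ n) : Subgroup.closure (tvSet C n) = ⊤ := by
  classical
  obtain ⟨-, ⟨d, -, hD⟩, hgen⟩ := Cfsg.Agent.S1631.result F hF n (by omega)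
  rw [eq_top_iff, ← hgen, Subgroup.closure_le]
  obtain ⟨g, p, hp, hpp, hg⟩ := tvSet_nonempty C hF (by omega : 2 ≤ n)
  intro k hk
  have hin : g ∈ {g : ↥(Cfsg.SU n F 2) |
      (((g : Matrix.SpecialLinearGroup (Fin n) F) : Matrix (Fin n) (Fin n) F) - 1).rank = 1} :=
    rank_of_mem C ⟨p, hp, hpp, hg⟩
  rw [hD] at hin hk
  obtain ⟨x, hx⟩ := isConj_iff.1 ((IsConj.symm hin).trans hk)
  refine Subgroup.subset_closure ⟨x.1.1 *ᵥ p, su_mulVec_ne_zero x hp, by rw [C.form_su, hpp], ?_⟩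
  rw [← hx]
  exact is_conj C hg x

/-- The neighbour condition in dimension seven. -/
theorem nbr_seven (hF : Fintype.card F = 4) {u v : ↥(Cfsg.SU 7 F 2)} (hu : u ∈ tvSet C 7) (hv : v ∈ tvSet C 7)
    (h : ¬ Commute u v) : Subgroup.closure {x | x ∈ tvSet C 7 ∧ (Commute x u ∨ Commute x v)} = ⊤ := by
  obtain ⟨p, hp0, hp, hu⟩ := hu
  obtain ⟨r, hr0, hr, hv⟩ := hv
  have hpr : C.form p r ≠ 0 := fun e => h (is_commute C hv hu e).symm
  rw [eq_top_iff, ← closure_tvSet C hF (le_refl 7), Subgroup.closure_le]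
  rintro w ⟨s, hs0, hs, hw⟩
  exact tv_mem_closure C hF (le_refl 7) hp0 hp hr0 hr hu hv hpr hs0 hs hw

end CfsgLib.Spor.SUFiveRad
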