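/-
A group generated by 3-transpositions over the unitary group in dimension seven: the radical is elementary abelian.
-/
import Cfsg.Agent.Lib.Spor.SUFiveRad.Main
import Cfsg.Agent.Lib.Spor.SUFiveRad.SevenGeom
import Cfsg.Agent.Lib.Spor.SUFiveRad.SevenCover
import Cfsg.Agent.Lib.Lie.Mult.Unit.FiveTwo
import Cfsg.Agent.Lib.Lie.Mult.Unit.ParTwo

set_option autoImplicit false

namespace CfsgLib.Spor.SUFiveRad

open CfsgLib.Spor.TC CfsgLib.SU CfsgLib.Lie.Mult.Unit Matrix
open Cfsg.Agent.S1631 (Is is_conj is_sq)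

variable {F : Type} [Field F] [Fintype F]

/-- The group in dimension five inside dimension seven. -/
noncomputable def fiveInSeven (C : UCtx F 2) : ↥(Cfsg.SU 5 F 2) →* ↥(Cfsg.SU 7 F 2) := kA (C := C) 5 2

theorem fiveInSeven_tv (C : UCtx F 2) {t : ↥(Cfsg.SU 5 F 2)} (ht : t ∈ tvSet C 5) :
    fiveInSeven C t ∈ tvSet C 7 := by
  obtain ⟨p, hp0, hp, ht⟩ := ht
  refine ⟨Fin.append p (0 : Fin 2 → F), fun e => hp0 ?_, ?_, fun v => ?_⟩
  · funext i
    have h := congrFun e (Fin.castAdd 2 i)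
    exact (Fin.append_left p (0 : Fin 2 → F) i).symm.trans h
  · have h := form_app (C := C) p p (0 : Fin 2 → F) 0
    rw [hp, C.form_zero_left, add_zero] at h
    exact h
  · obtain ⟨x, y, rfl⟩ : ∃ (x : Fin 5 → F) (y : Fin 2 → F), v = Fin.append x y :=
      ⟨_, _, (app_lr (k := 5) (m := 2) v).symm⟩
    refine (kA_app (C := C) t x y).trans ?_
    rw [ht, show C.form (Fin.append x y) (Fin.append p (0 : Fin 2 → F)) = C.form x p by
      rw [form_app, C.form_zero_right, add_zero], app_smul, app_add, smul_zero, add_zero]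

theorem main_seven {G : Type*} [Group G] [Finite G] (hF : Fintype.card F = 4) {D : Set G}
    (hD : Cfsg.IsThreeTranspositionClass D) (hZ : Subgroup.center G = ⊥) (π : G →* ↥(Cfsg.SU 7 F 2))
    (hπ : Function.Surjective π) (h2 : IsPGroup 2 π.ker) : Cfsg.IsElementaryAbelian 2 π.ker := by
  classical
  have hF' : Fintype.card F = 2 ^ 2 := by rw [hF]; norm_num
  obtain ⟨C⟩ := CfsgLib.Classical.uctx_exists (q := 2) hF'
  obtain ⟨M⟩ := exists_model F hF
  obtain ⟨⟨hord, h23⟩, ⟨d₀, hd₀, hDeq⟩, hgen⟩ := hD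
  have hsqD : ∀ d ∈ D, d * d = 1 := fun d hd => by
    have := pow_orderOf_eq_one d
    rwa [hord d hd, pow_two] at this
  have hconj : ∀ g : G, ∀ d ∈ D, g * d * g⁻¹ ∈ D := fun g d hd => by
    rw [hDeq] at hd ⊢; exact hd.trans (isConj_iff.2 ⟨g, rfl⟩)
  have hone : ∀ d ∈ D, ∀ e ∈ D, IsConj d e := fun d hd e he => by
    rw [hDeq] at hd he; exact (IsConj.symm hd).trans he
  set ψ := fiveInSeven C
  have hψ : Function.Injective ψ := kA_injective (C := C) 5 2
  -- the image is the set of transvections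
  have hone' : ∀ d ∈ D, π d ≠ 1 := by
    intro d hd hd1
    have hle : D ⊆ (π.ker : Set G) := fun e he => by
      obtain ⟨g, rfl⟩ := isConj_iff.1 (hone d hd e he)
      exact MonoidHom.mem_ker.2 (by rw [map_mul, map_mul, hd1, mul_one, map_inv, mul_inv_cancel])
    have htop : π.ker = ⊤ := top_le_iff.1 (hgen ▸ (Subgroup.closure_le _).2 hle)
    have h1 : ∀ k : ↥(Cfsg.SU 7 F 2), k = 1 := fun k => by
      obtain ⟨x, rfl⟩ := hπ k
      exact MonoidHom.mem_ker.1 (htop ▸ Subgroup.mem_top x)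
    exact absurd (M.inj 1 (by norm_num) 0 (by norm_num) (hψ ((h1 _).trans (h1 _).symm))) one_ne_zero
  have h23K : ∀ x ∈ π '' D, ∀ y ∈ π '' D, (x * y) ^ 2 = 1 ∨ (x * y) ^ 3 = 1 := by
    rintro _ ⟨d, hd, rfl⟩ _ ⟨e, he, rfl⟩
    rw [← map_mul, ← map_pow, ← map_pow]
    exact (h23 d hd e he).imp (fun h => by rw [h, map_one]) (fun h => by rw [h, map_one])
  have hcK : ∀ g, ∀ x ∈ π '' D, g * x * g⁻¹ ∈ π '' D := by
    rintro g _ ⟨d, hd, rfl⟩
    obtain ⟨x, rfl⟩ := hπ g
    exact ⟨x * d * x⁻¹, hconj x d hd, by rw [map_mul, map_mul, map_inv]⟩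
  have hsub : π '' D ⊆ tvSet C 7 := by
    rintro x ⟨d, hd, rfl⟩
    refine (invol_seven C hF (by rw [← map_mul, hsqD d hd, map_one]) (hone' d hd)).resolve_right ?_
    rintro ⟨h, ha, hb⟩
    exact (h23K _ ⟨d, hd, rfl⟩ _ (hcK h _ ⟨d, hd, rfl⟩)).elim ha hb
  have hT : π '' D = tvSet C 7 := Set.Subset.antisymm hsub fun t ht => by
    obtain ⟨g, hg⟩ := isConj_iff.1 (tv_transitive C hF (by norm_num) (hsub ⟨d₀, hd₀, rfl⟩) ht)
    exact hg ▸ hcK g _ ⟨d₀, hd₀, rfl⟩
  have hO : Over π D := ⟨hsqD, h23, hconj, hone, hgen, hπ, h2, hZ, fun u hu v hv hn => by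
    rw [hT] at hu hv ⊢; exact nbr_seven C hF hu hv hn⟩
  -- five lifts
  have hψT : ∀ i < 165, ψ (M.a i) ∈ π '' D := by
    have hmem : ∀ x ∈ ψ ⁻¹' (π '' D), (x * x = 1 ∧ x ≠ 1) := fun x ⟨d, hd, e⟩ =>
      ⟨hψ (by rw [map_mul, ← e, ← map_mul, hsqD d hd, map_one, map_one]),
        fun h => hone' d hd (by rw [e, h, map_one])⟩
    have hE : ψ ⁻¹' (π '' D) = M.transv := by
      refine M.class_eq ?_ (fun h => (hmem 1 h).2 rfl) (fun x hx => (hmem x hx).1) (fun g x hx => ?_) ?_
      · obtain ⟨t, ht⟩ := tvSet_nonempty C hF (n := 5) (by norm_num)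
        exact ⟨t, by rw [Set.mem_preimage, hT]; exact fiveInSeven_tv C ht⟩
      · rw [Set.mem_preimage, map_mul, map_mul, map_inv]; exact hcK _ _ hx
      · intro x hx y hy
        exact (h23K _ hx _ hy).imp (fun h => hψ (by rw [map_pow, map_mul, h, map_one]))
          (fun h => hψ (by rw [map_pow, map_mul, h, map_one]))
    intro i hi
    exact (hE.symm ▸ ⟨i, hi, rfl⟩ : M.a i ∈ ψ ⁻¹' (π '' D))
  have hlift : ∀ k : ℕ, ∃ d : G, k < 5 → d ∈ D ∧ π d = ψ (M.a (genPt k)) := fun k => by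
    by_cases hk : k < 5
    · obtain ⟨d, hd, e⟩ := hψT _ (genPt_lt hk)
      exact ⟨d, fun _ => ⟨hd, e⟩⟩
    · exact ⟨1, fun h => absurd h hk⟩
  choose dl hdl using hlift
  set g : ℕ → G := fun k => if k < 5 then dl k else 1 with hgdef
  have hgD : ∀ k < 5, g k ∈ D := fun k hk => by simp only [g, if_pos hk]; exact (hdl k hk).1
  have hgsq : ∀ k, g k * g k = 1 := fun k => by
    simp only [g]; split_ifs with hk
    · exact hsqD _ (hdl k hk).1
    · exact one_mul 1
  have hpg : ∀ k, π (g k) = ψ (M.gs k) := fun k => by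
    simp only [g, Model.gs]; split_ifs with hk
    · exact (hdl k hk).2
    · rw [map_one, map_one]
  have hev : ∀ w, π (ev g w) = ψ (ev M.gs w) := fun w => by
    rw [map_ev, map_ev]; exact ev_congr fun x _ => hpg x
  have hpal : ∀ (p : List ℕ) (m : ℕ), m < 5 → ev g (p ++ [m] ++ p.reverse) ∈ D := fun p m hm => by
    rw [ev_append, ev_append, Model.ev_reverse hgsq, show ev g [m] = g m by simp [ev]]
    exact hconj _ _ (hgD m hm)
  have hsA := sat_of_lifts M ψ hψ π g hgD hgsq (fun x hx => if_neg (by omega)) hev hpal h23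
  have hlt : ∀ x ∈ oddWord, x < 5 := by decide +kernel
  set c := ev g oddWord with hc
  set H := Subgroup.closure (g '' Set.Iio 5) with hH
  have hgH : ∀ k < 5, g k ∈ H := fun k hk => Subgroup.subset_closure ⟨k, hk, rfl⟩
  have hcH : c ∈ H := ev_mem fun x hx => hgH x (hlt x hx)
  have h := oddOK_eq
  simp only [oddOK, letters, List.all_eq_true, List.mem_range, Bool.and_eq_true, decide_eq_true_eq,
    beq_iff_eq] at h
  obtain ⟨⟨⟨⟨hfix, hhead⟩, hsplit⟩, horth⟩, hp⟩ := h
  have hck : c ∈ π.ker := by rw [MonoidHom.mem_ker, hev, M.ev_eq_one hlt hfix, map_one]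
  have hc2 : c ^ 2 = 1 := by
    set φ : H →* ↥(Cfsg.SU 7 F 2) := π.comp H.subtype with hφ
    have hrange : ψ.range ≤ φ.range := by
      rw [MonoidHom.range_eq_map, Subgroup.map_le_iff_le_comap]
      exact le_of_eq (M.closure_gs (S := φ.range.comap ψ) fun k hk =>
        ⟨⟨g k, hgH k hk⟩, (hpg k).trans (by rw [M.gs_of_lt hk])⟩).symm
    have h1 : 13685760 ≤ Nat.card φ.range := by
      have := Subgroup.card_le_of_le hrange
      rwa [← Nat.card_congr (MonoidHom.ofInjective hψ).toEquiv, M.card] at this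
    have h2' : Nat.card H = Nat.card φ.range * Nat.card φ.ker := by
      rw [Subgroup.card_eq_card_quotient_mul_card_subgroup φ.ker,
        Nat.card_congr (QuotientGroup.quotientKerEquivRange φ).toEquiv]
    have h3 : Nat.card H ≤ 3960 * (128 * 54) := card_closure_le hsA card_relsA
    have h4 : Nat.card φ.ker ≤ 2 := by
      by_contra h5
      have := Nat.mul_le_mul h1 (Nat.succ_le_of_lt (not_le.1 h5))
      omega
    let c' : φ.ker := ⟨⟨c, hcH⟩, hck⟩
    have h5 : c' ^ Nat.card φ.ker = 1 := pow_card_eq_one'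
    have h6 : c' ^ 2 = 1 := by
      have : Nat.card φ.ker = 1 ∨ Nat.card φ.ker = 2 := by
        have := Nat.card_pos (α := φ.ker); omega
      rcases this with e | e <;> rw [e] at h5
      · rw [pow_one] at h5; rw [h5, one_pow]
      · exact h5
    exact congrArg (fun y : φ.ker => ((y : H) : G)) h6
  -- the quotient by the abelian subgroup
  haveI := hO.eSub_normal
  set N := eSub π D
  let τ : G ⧸ N →* ↥(Cfsg.SU 7 F 2) := QuotientGroup.lift N π hO.eSub_le_ker
  have hτ : Function.Surjective τ := fun k => by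
    obtain ⟨x, rfl⟩ := hπ k; exact ⟨QuotientGroup.mk x, rfl⟩
  have hcent : τ.ker ≤ Subgroup.center (G ⧸ N) := by
    intro z hz
    obtain ⟨q, rfl⟩ := QuotientGroup.mk_surjective z
    have hq : π q = 1 := hz
    rw [Subgroup.mem_center_iff]
    intro y
    obtain ⟨y, rfl⟩ := QuotientGroup.mk_surjective y
    have hy : y ∈ (Subgroup.centralizer {QuotientGroup.mk' N q}).comap (QuotientGroup.mk' N) := by
      have hle : Subgroup.closure D ≤ (Subgroup.centralizer {QuotientGroup.mk' N q}).comap (QuotientGroup.mk' N) := by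
        rw [Subgroup.closure_le]
        intro d hd
        rw [SetLike.mem_coe, Subgroup.mem_comap, Subgroup.mem_centralizer_singleton_iff, ← map_mul, ← map_mul,
          QuotientGroup.mk'_apply, QuotientGroup.mk'_apply, eq_comm, QuotientGroup.eq_iff_div_mem,
          div_eq_mul_inv, _root_.mul_inv_rev, hO.inv_eq hd]
        refine Subgroup.subset_closure ⟨π d, ⟨d, hd, rfl⟩, q * d * q⁻¹, hconj q d hd, d, hd, ?_, rfl, by group⟩
        rw [map_mul, map_mul, map_inv, hq, one_mul, inv_one, mul_one]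
      rw [hgen] at hle
      exact hle (Subgroup.mem_top y)
    exact Subgroup.mem_centralizer_singleton_iff.1 (Subgroup.mem_comap.1 hy)
  have hτ2 : IsPGroup 2 τ.ker := by
    intro ⟨z, hz⟩
    obtain ⟨q, rfl⟩ := QuotientGroup.mk_surjective z
    obtain ⟨k, hk⟩ := h2 ⟨q, hz⟩
    exact ⟨k, Subtype.ext (by
      have := congrArg (fun y : π.ker => QuotientGroup.mk' N (y : G)) hk
      simpa using this)⟩
  have hperf : commutator ↥(Cfsg.SU 7 F 2) = ⊤ :=
    CfsgLib.Classical.WeilSU.su_perfect hF' (by norm_num) (by omega)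
  have hnop : NoP 2 ↥(Cfsg.SU 7 F 2) :=
    nop_two_seven (C := C) hF' (nop_five_two_two (C := C) hF' rfl)
  let A : G →* Abelianization (G ⧸ N) := Abelianization.of.comp (QuotientGroup.mk' N)
  have hAD : ∀ d ∈ D, A d = A d₀ := fun d hd => by
    obtain ⟨x, rfl⟩ := isConj_iff.1 (hone d₀ hd₀ d hd)
    rw [map_mul, map_mul, map_inv, mul_comm (A x), mul_inv_cancel_right]
  have hAall : ∀ x : G, A x = 1 ∨ A x = A d₀ := by
    intro x
    have hx : x ∈ Subgroup.closure D := hgen ▸ Subgroup.mem_top x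
    have ha2 : A d₀ * A d₀ = 1 := by rw [← map_mul, hsqD _ hd₀, map_one]
    induction hx using Subgroup.closure_induction with
    | mem y hy => exact Or.inr (hAD y hy)
    | one => exact Or.inl (map_one A)
    | mul y z _ _ hy hz =>
      rw [map_mul]
      rcases hy with hy | hy <;> rcases hz with hz | hz <;> rw [hy, hz] <;> simp [ha2]
    | inv y _ hy =>
      rw [map_inv]
      rcases hy with hy | hy <;> rw [hy]
      · exact Or.inl inv_one
      · exact Or.inr (inv_eq_of_mul_eq_one_right ha2)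
  have hAker : ∀ q ∈ π.ker, A q = 1 → q ∈ N := fun q hq hA => by
    rw [← QuotientGroup.eq_one_iff]
    refine eq_one_of_mem_commutator τ hτ hperf hnop hcent hτ2 (hq : τ (QuotientGroup.mk q) = 1) ?_
    exact (QuotientGroup.eq_one_iff (N := commutator (G ⧸ N)) (QuotientGroup.mk q : G ⧸ N)).1 hA
  have hAc : A c = A d₀ := by
    have key : ∀ w : List ℕ, (∀ x ∈ w, x < 5) → A (ev g w) = A d₀ ^ w.length := by
      intro w
      induction w with
      | nil => intro _; simp [ev]
      | cons x w ih =>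
        intro hw
        rw [ev_cons, map_mul, hAD _ (hgD x (hw x (by simp))), ih fun y hy => hw y (by simp [hy]),
          List.length_cons, pow_succ']
    have ha2 : A d₀ ^ 2 = 1 := by rw [pow_two, ← map_mul, hsqD _ hd₀, map_one]
    rw [hc, key _ hlt, show oddWord.length = 2 * 22 + 1 by decide +kernel, pow_succ, pow_mul, ha2, one_pow, one_mul]
  have hker : ∀ q ∈ π.ker, q ∈ N ∨ c⁻¹ * q ∈ N := fun q hq => by
    rcases hAall q with e | e
    · exact Or.inl (hAker q hq e)
    · exact Or.inr (hAker _ (mul_mem (inv_mem hck) hq) (by rw [map_mul, map_inv, hAc, e, inv_mul_cancel]))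
  -- the extra element centralizes
  have hEc : IsMulCommutative N := hO.isMulCommutative_eSub
  have hEE : ∀ {x y : G}, x ∈ N → y ∈ N → Commute x y := fun hx hy =>
    congrArg Subtype.val (mul_comm' (⟨_, hx⟩ : N) ⟨_, hy⟩)
  have hcW : ∀ z ∈ wSub π D (ψ (M.a perpPt)), Commute c z := by
    intro z hz
    rw [hc, hsplit, ev_append]
    refine Commute.mul_left ?_ ?_
    · refine Subgroup.mem_centralizer_singleton_iff.1 (ev_mem (S := Subgroup.centralizer {z}) fun x hx => ?_)
      have hx5 : x < 5 := (hhead x hx).trans (by norm_num)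
      refine Subgroup.mem_centralizer_singleton_iff.2 (hO.commute_wSub (hgD x hx5) ?_ hz).eq
      rw [hpg, M.gs_of_lt hx5]
      exact ((M.commute_iff (genPt_lt hx5) hp).2 (horth x (hhead x hx))).map ψ
    · refine hO.commute_wSub (hpal _ _ (Model.conj_data hp).2.1) ?_ hz
      rw [← wordOf, hev, M.ev_wordOf hp]
      exact Commute.refl _
  have hcE : ∀ z ∈ N, Commute c z := by
    have hle : N ≤ Subgroup.centralizer {c} := (Subgroup.closure_le _).2 fun z ⟨u, hu, hz⟩ => by
      refine Subgroup.mem_centralizer_singleton_iff.2 (Commute.eq ?_).symm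
      have hu0 : ψ (M.a perpPt) ∈ π '' D := hψT _ hp
      rw [hT] at hu hu0
      obtain ⟨k, hk⟩ := isConj_iff.1 (tv_transitive C hF (by norm_num) hu hu0)
      obtain ⟨x, rfl⟩ := hπ k
      have hz' := hO.conj_wSub x (Subgroup.subset_closure hz : z ∈ wSub π D u)
      rw [hk] at hz'
      have hzN : z ∈ N := Subgroup.subset_closure ⟨u, hT ▸ hu, hz⟩
      have h1 : Commute c (x * z * x⁻¹) := hcW _ hz'
      have h3 : Commute (x⁻¹ * c * x) z := by
        have := h1.map (MulAut.conj x⁻¹).toMonoidHom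
        simpa [MulAut.conj_apply, mul_assoc] using this
      have hck' : c⁻¹ * (x⁻¹ * c * x) ∈ N := hAker _
        (mul_mem (inv_mem hck) (by simpa using (inferInstance : π.ker.Normal).conj_mem c hck x⁻¹))
        (by rw [map_mul, map_mul, map_mul, map_inv, map_inv, mul_comm (A x)⁻¹, inv_mul_cancel_right, inv_mul_cancel])
      have h4 := h3.mul_left (hEE hck' hzN).inv_left
      rwa [show x⁻¹ * c * x * (c⁻¹ * (x⁻¹ * c * x))⁻¹ = c by group] at h4
    exact fun z hz => (Subgroup.mem_centralizer_singleton_iff.1 (hle hz)).symm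
  have hrep : ∀ q ∈ π.ker, ∃ e ∈ N, q = e ∨ q = c * e := fun q hq => by
    rcases hker q hq with h | h
    · exact ⟨q, h, Or.inl rfl⟩
    · exact ⟨_, h, Or.inr (mul_inv_cancel_left c q).symm⟩
  refine ⟨⟨⟨fun a b => Subtype.ext ?_⟩⟩, fun q hq => ?_⟩
  · show (a : G) * b = b * a
    obtain ⟨e, he, ea⟩ := hrep a a.2
    obtain ⟨f, hf, eb⟩ := hrep b b.2
    have hc' : ∀ e ∈ N, Commute c (c * e) := fun e he => (Commute.refl c).mul_right (hcE e he)
    rcases ea with ea | ea <;> rcases eb with eb | eb <;> rw [ea, eb]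
    · exact (hEE he hf).eq
    · exact ((hcE e he).symm.mul_right (hEE he hf)).eq
    · exact ((hcE f hf).symm.mul_right (hEE hf he)).eq.symm
    · exact ((hc' f hf).mul_left ((hcE e he).symm.mul_right (hEE he hf))).eq
  · obtain ⟨e, he, eq | eq⟩ := hrep q hq <;> subst eq
    · exact hO.pow_two_eq_one he
    · rw [(hcE e he).mul_pow, hc2, one_mul, hO.pow_two_eq_one he]

end CfsgLib.Spor.SUFiveRad
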